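import Cfsg.Agent.OddHalf.D7TwF4.Mid.Four

/-!
# `²F₄(q)`: `[W_2, W_6] = 1`, the group `F_4` is elementary abelian (helper427)
-/

set_option autoImplicit false
set_option linter.unusedSectionVars false
set_option linter.style.haveILetI false
set_option linter.unusedVariables false

namespace Cfsg.Agent.OddHalf.D7TwF4.Mid.Ab

open Cfsg.Agent.KFacts.TwF4 Cfsg.Agent.SplitTwo.ZS Cfsg.Agent.OddHalf.D7TwF4.Defs
open Cfsg.Agent.OddHalf.D7TwF4.Mid.Basic Cfsg.Agent.OddHalf.D7TwF4.Growth.Tools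
open Cfsg.Agent.OddHalf.D7TwF4.Mid.Pair Cfsg.Agent.OddHalf.D7TwF4.Mid.Four

universe u v w

variable {F : Type w} [Field F] {σ : F →+* F} {Y : Type u} [Group Y] {G : Type v} [Group G]
variable {S : Full σ Y} {i : Y →* G} {t : G} {W : ℤ → Subgroup G}

section dbl

variable (P : Pos S i t) (D : WData S i t W)
include P D

theorem W1_FF {w : G} (hw : w ∈ W 1) : w ∈ FF S i W 2 := by
  have h3 : i S.n2 * w * (i S.n2)⁻¹ ∈ W 3 := by
    have := n2W P D hw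
    norm_num at this
    exact this
  have h4 := W_FF' (S := S) (i := i) (W := W) (a := 2) (y := S.n2⁻¹) (of_PL P D (inv_mem S.n2_mem)) (w := i S.n2 * w * (i S.n2)⁻¹) h3
  have e : i S.n2⁻¹ * (i S.n2 * w * (i S.n2)⁻¹) * (i S.n2⁻¹)⁻¹ = w := by rw [map_inv]; group
  rwa [e] at h4

theorem W3_FF {w : G} (hw : w ∈ W 3) : w ∈ FF S i W 2 := by
  have h4 := W_FF' (S := S) (i := i) (W := W) (a := 2) (y := 1) (of_PL P D (one_mem _)) (w := w) hw
  have e : i 1 * w * (i 1)⁻¹ = w := by rw [map_one]; group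
  rwa [e] at h4

/-- the action of `X_8` on `W_2` -/
theorem exists_f {w2 w6 : G} {q v u : F} (hw2 : w2 ∈ W 1) (hw6 : w6 ∈ W 3) (h2 : tc t w2 = w2 * i (S.e 1 0 u))
    (h6 : tc t w6 = w6 * i (S.e 3 0 (u * q * v + u * q * q * σ q + u * σ v))) :
    ∃ f ∈ FF S i W 2, (i (S.e 4 q v))⁻¹ * w2 * i (S.e 4 q v) = w2 * f * w6 ∧ (∀ w ∈ W 3, f * w = w * f) ∧
      ∃ c, tc t f = f * i (S.o 1 (u * q) * S.o 2 (u * v) * S.e 2 0 c) := by
  have hx8 : S.e 4 q v ∈ S.PL := mem_J (S.mX8 q v) (by norm_num) (by norm_num)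
  obtain ⟨x, hx⟩ : ∃ x, x = S.e 4 q v := ⟨_, rfl⟩
  rw [← hx] at hx8 ⊢
  obtain ⟨w2', hw2'⟩ : ∃ w2', w2' = (i x)⁻¹ * w2 * i x := ⟨_, rfl⟩
  have hm2 : w2' ∈ FF S i W 2 := by
    have := FF_conj P D (a := 2) (of_PL P D (inv_mem hx8)) w2 (W1_FF P D hw2)
    rwa [map_inv, inv_inv, ← hw2'] at this
  have hm : w2⁻¹ * w2' * w6⁻¹ ∈ FF S i W 2 :=
    mul_mem (mul_mem (inv_mem (W1_FF P D hw2)) hm2) (inv_mem (W3_FF P D hw6))
  refine ⟨w2⁻¹ * w2' * w6⁻¹, hm, ?_, ?_, ?_⟩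
  · rw [← hw2']; group
  · intro w hw
    -- `x` commutes with `w`
    have c1 : w * i x = i x * w := centX P D hw (k := 8) (by norm_num) (by norm_num) (hx ▸ S.mX8 q v)
    obtain ⟨y, hy⟩ := c26 P D hw2 hw
    have c2 : w2' * w * w2'⁻¹ * w⁻¹ = w2 * w * w2⁻¹ * w⁻¹ := by
      have e1 : w = (i x)⁻¹ * w * i x := by rw [mul_assoc, c1]; group
      have e2 : w2' * w * w2'⁻¹ * w⁻¹ = (i x)⁻¹ * (w2 * w * w2⁻¹ * w⁻¹) * i x := by
        calc w2' * w * w2'⁻¹ * w⁻¹ = w2' * ((i x)⁻¹ * w * i x) * w2'⁻¹ * ((i x)⁻¹ * w * i x)⁻¹ := by rw [← e1]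
          _ = _ := by rw [hw2']; group
      rw [e2, hy, ← map_inv, ← map_mul, ← map_mul]
      congr 1
      have := S.comm_PL hx8 (z := S.e 2 0 y) ⟨y, rfl⟩
      rw [mul_assoc, ← this]; group
    have c3 : w6 * w = w * w6 := D.ab hw6 hw
    obtain ⟨f, hf⟩ : ∃ f, f = w2⁻¹ * w2' * w6⁻¹ := ⟨_, rfl⟩
    have e3 : w2' = w2 * f * w6 := by rw [hf]; group
    rw [← hf]
    rw [e3, brk_mul_z c3] at c2
    apply comm_of_brk
    have e4 : w2 * f * w * (w2 * f)⁻¹ * w⁻¹ = (w2 * (f * w * f⁻¹ * w⁻¹) * w2⁻¹) * (w2 * w * w2⁻¹ * w⁻¹) := by group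
    rw [e4] at c2
    have e5 : w2 * (f * w * f⁻¹ * w⁻¹) * w2⁻¹ = 1 := mul_eq_right.1 c2
    rw [mul_inv_eq_one] at e5
    exact mul_eq_left.1 e5
  · -- the image under `τ`
    obtain ⟨c, hc⟩ : ∃ c, c = σ u * q * σ q + σ u * v := ⟨_, rfl⟩
    refine ⟨c, ?_⟩
    have r : S.e 1 0 u * S.e 4 q v = S.e 4 q v * S.e 1 0 u * S.o 1 (0 * σ 0 * q + u * q) *
        S.e 2 (σ 0 * q) (0 * u * v + 0 * 0 * σ 0 * v + σ u * q * σ q + σ u * v) * S.o 2 (u * v) *
        S.e 3 (0 * σ q) (0 * σ 0 * q * q * σ q + 0 * σ 0 * σ v + u * q * v + u * q * q * σ q + u * σ v) *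
        S.o 3 (0 * q * σ q + 0 * v) := S.e_e3 1 0 u q v
    simp only [map_zero, zero_mul, mul_zero, zero_add, add_zero, S.o_zero, mul_one] at r
    have r' : x⁻¹ * S.e 1 0 u * x = S.e 1 0 u * S.o 1 (u * q) * S.e 2 0 c * S.o 2 (u * v) *
        S.e 3 0 (u * q * v + u * q * q * σ q + u * σ v) := by
      have r2 : S.e 1 0 u * x = x * (S.e 1 0 u * S.o 1 (u * q) * S.e 2 0 c * S.o 2 (u * v) *
          S.e 3 0 (u * q * v + u * q * q * σ q + u * σ v)) := by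
        rw [hx, hc]
        simpa only [mul_assoc] using r
      rw [mul_assoc, r2]; group
    have t2 : tc t w2' = w2' * i (x⁻¹ * S.e 1 0 u * x) := by
      rw [hw2']
      simp only [map_mul, map_inv, tc_i P, h2]
      group
    rw [r'] at t2
    obtain ⟨m, hm'⟩ : ∃ m, m = u * q * v + u * q * q * σ q + u * σ v := ⟨_, rfl⟩
    rw [← hm'] at t2 h6
    obtain ⟨A, hA⟩ : ∃ A, A = S.o 1 (u * q) * S.e 2 0 c * S.o 2 (u * v) := ⟨_, rfl⟩
    have hAQ : A ∈ S.Q2 := by rw [hA]; exact mul_mem (mul_mem (S.q2_2 _) (S.q2_3 _)) (S.q2_4 _)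
    have e0 : S.o 1 (u * q) * S.o 2 (u * v) * S.e 2 0 c = A := by
      rw [hA, mul_assoc, mul_assoc]
      congr 1
      exact S.Q1_comm (Q2_le_Q1 (S.q2_4 _)) (S.q2_3 _)
    rw [e0]
    have e1 : S.e 1 0 u * S.o 1 (u * q) * S.e 2 0 c * S.o 2 (u * v) * S.e 3 0 m = S.e 1 0 u * A * S.e 3 0 m := by
      rw [hA]; simp only [mul_assoc]
    rw [e1] at t2
    have q1 := S.q2_1 u
    have q3 := S.q2_5 m
    have cA := cQ2 P D hm hAQ
    have c1 : w2⁻¹ * i (S.e 1 0 u) = i (S.e 1 0 u) * w2⁻¹ := cQ2 P D (inv_mem (W1_FF P D hw2)) q1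
    have c2 : w2' * i (S.e 1 0 u) = i (S.e 1 0 u) * w2' := cQ2 P D hm2 q1
    have c3 : w6⁻¹ * i (S.e 3 0 m) = i (S.e 3 0 m) * w6⁻¹ := cQ2 P D (inv_mem (W3_FF P D hw6)) q3
    have c4 : w6⁻¹ * i A = i A * w6⁻¹ := cQ2 P D (inv_mem (W3_FF P D hw6)) hAQ
    have c5 : i A * i (S.e 3 0 m) = i (S.e 3 0 m) * i A := by
      rw [← map_mul, ← map_mul, S.Q1_comm (Q2_le_Q1 hAQ) q3]
    rw [map_mul, map_mul, map_inv, map_inv, h2, t2, h6]
    simp only [map_mul]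
    calc (w2 * i (S.e 1 0 u))⁻¹ * (w2' * (i (S.e 1 0 u) * i A * i (S.e 3 0 m))) * (w6 * i (S.e 3 0 m))⁻¹ =
        (i (S.e 1 0 u))⁻¹ * w2⁻¹ * (w2' * i (S.e 1 0 u)) * i A * w6⁻¹ := by group
      _ = (i (S.e 1 0 u))⁻¹ * (w2⁻¹ * i (S.e 1 0 u)) * w2' * i A * w6⁻¹ := by rw [c2]; group
      _ = w2⁻¹ * w2' * (i A * w6⁻¹) := by rw [c1]; group
      _ = _ := by rw [← c4]; group

/-- elements over `X_5 Z_4` commute with `W_6` -/
theorem X5W3 {f : G} (hf : f ∈ FF S i W 2) {v c : F} (h : tc t f = f * i (S.o 2 v * S.e 2 0 c)) :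
    ∀ w ∈ W 3, f * w = w * f := by
  obtain ⟨w2, hw2, h2⟩ := sur P D 1 1
  obtain ⟨w6, hw6, h6⟩ := sur P D 3 (1 * 0 * v + 1 * 0 * 0 * σ 0 + 1 * σ v)
  obtain ⟨f', hf', -, hc, c', h'⟩ := exists_f P D (q := 0) (v := v) hw2 hw6 h2 h6
  rw [mul_zero, S.o_zero, one_mul, one_mul] at h'
  obtain ⟨w4, hw4, e, he, h3⟩ := splitF2 P D hf' hf ⟨c', rfl⟩ ⟨c, rfl⟩ (S.q2_4 v) h' h
  intro w hw
  rw [h3]
  refine comm_mul (hc w hw) (comm_mul (D.one 2 w4 hw4 w hw) ?_)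
  exact (centJ' P D hw (b := 2) (c := 6) (by norm_num) (by norm_num) (S.Q2_le_J he)).symm

/-- elements over `X_3 Z_4` commute with `W_2` -/
theorem X3W1 {f : G} (hf : f ∈ FF S i W 2) {v c : F} (h : tc t f = f * i (S.o 1 v * S.e 2 0 c)) :
    ∀ w ∈ W 1, f * w = w * f := by
  intro w hw
  have h3 : i S.n2 * w * (i S.n2)⁻¹ ∈ W 3 := by
    have := n2W P D hw
    norm_num at this
    exact this
  have hf' := FF_conj P D (a := 2) (of_PL P D S.n2_mem) f hf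
  have h' : tc t (i S.n2 * f * (i S.n2)⁻¹) = i S.n2 * f * (i S.n2)⁻¹ * i (S.o 2 v * S.e 2 0 c) := by
    have e : S.o 2 v * S.e 2 0 c = S.n2 * (S.o 1 v * S.e 2 0 c) * S.n2⁻¹ := by
      have a1 : S.n2 * S.o 1 v * S.n2⁻¹ = S.o 2 v := S.n2_o 1 v
      have a2 : S.n2 * S.e 2 0 c * S.n2⁻¹ = S.e 2 0 c := S.n2_e 2 0 c
      calc S.o 2 v * S.e 2 0 c = (S.n2 * S.o 1 v * S.n2⁻¹) * (S.n2 * S.e 2 0 c * S.n2⁻¹) := by rw [a1, a2]
        _ = _ := by group
    rw [e]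
    simp only [map_mul, map_inv, tc_i P] at h ⊢
    rw [h]; group
  have h4 := X5W3 P D hf' h' _ h3
  have e1 : f * w = (i S.n2)⁻¹ * ((i S.n2 * f * (i S.n2)⁻¹) * (i S.n2 * w * (i S.n2)⁻¹)) * i S.n2 := by group
  rw [e1, h4]; group

/-- **`[W_2, W_6] = 1`** -/
theorem comm26 {w w' : G} (hw : w ∈ W 1) (hw' : w' ∈ W 3) : w * w' = w' * w := by
  haveI := P.finF
  obtain ⟨g, gadd, hg⟩ := exists_gam P D
  -- the squares
  have key : ∀ n : Fˣ, ∃ f ∈ FF S i W 2, f * f = i (S.e 2 0 (g (σ n))) ∧ ∃ c, tc t f = f * i (S.o 1 1 * S.e 2 0 c) := by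
    intro n
    obtain ⟨w2, hw2, h2⟩ := sur P D 1 ((n : F)⁻¹)
    obtain ⟨w6, hw6, h6⟩ := sur P D 3 ((n : F)⁻¹ * n * 0 + (n : F)⁻¹ * n * n * σ n + (n : F)⁻¹ * σ 0)
    obtain ⟨f, hf, he, hc, c, h⟩ := exists_f P D (q := (n : F)) (v := 0) hw2 hw6 h2 h6
    have e1 : (n : F)⁻¹ * n = 1 := inv_mul_cancel₀ n.ne_zero
    rw [e1, mul_zero, S.o_zero, mul_one] at h
    refine ⟨f, hf, ?_, c, h⟩
    have hc2 := X3W1 P D hf h w2 hw2
    have hc6 := hc w6 hw6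
    have hs2 := D.sq hw2
    have hs6 := D.sq hw6
    have i2 : w2⁻¹ = w2 := inv_eq_of_mul_eq_one_left hs2
    have i6 : w6⁻¹ = w6 := inv_eq_of_mul_eq_one_left hs6
    have h7 := hg _ _ w2 w6 hw2 hw6 h2 h6
    have e2 : (n : F)⁻¹ * ((n : F)⁻¹ * n * 0 + (n : F)⁻¹ * n * n * σ n + (n : F)⁻¹ * σ 0) = σ n := by
      rw [map_zero, mul_zero, mul_zero, zero_add, add_zero, e1, one_mul, ← mul_assoc, e1, one_mul]
    rw [e2, i2, i6] at h7
    have h8 : (w2 * f * w6) * (w2 * f * w6) = 1 := by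
      rw [← he]
      calc (i (S.e 4 (n : F) 0))⁻¹ * w2 * i (S.e 4 (n : F) 0) * ((i (S.e 4 (n : F) 0))⁻¹ * w2 * i (S.e 4 (n : F) 0)) =
          (i (S.e 4 (n : F) 0))⁻¹ * (w2 * w2) * i (S.e 4 (n : F) 0) := by group
        _ = 1 := by rw [hs2]; group
    have h9 : (w2 * f * w6) * (w2 * f * w6) = (f * f) * (w2 * w6 * w2 * w6) := by
      calc (w2 * f * w6) * (w2 * f * w6) = (w2 * f) * w6 * w2 * (f * w6) := by group
        _ = f * w2 * w6 * w2 * w6 * f := by rw [← hc2, hc6]; group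
        _ = f * (w2 * w6 * w2 * w6 * f) := by group
        _ = f * (f * (w2 * w6 * w2 * w6)) := by
            congr 1
            exact comm_mul (comm_mul (comm_mul hc2.symm hc6.symm) hc2.symm) hc6.symm
        _ = _ := by group
    rw [h9, h7] at h8
    have h10 : i (S.e 2 0 (g (σ n))) * i (S.e 2 0 (g (σ n))) = 1 := by
      rw [← map_mul, zc_sq ⟨_, rfl⟩, map_one]
    calc f * f = f * f * (i (S.e 2 0 (g (σ n))) * i (S.e 2 0 (g (σ n)))) := by rw [h10, mul_one]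
      _ = (f * f * i (S.e 2 0 (g (σ n)))) * i (S.e 2 0 (g (σ n))) := by group
      _ = _ := by rw [h8, one_mul]
  -- `g` is constant on the non-zero elements
  have const : ∀ n : Fˣ, g (σ n) = g 1 := by
    intro n
    obtain ⟨f, hf, hff, c, h⟩ := key n
    obtain ⟨f', hf', hff', c', h'⟩ := key 1
    obtain ⟨w4, hw4, e, he, h3⟩ := splitF2 P D hf' hf ⟨c', rfl⟩ ⟨c, rfl⟩ (S.q2_2 1) h' h
    have c1 : f' * (w4 * i e) = (w4 * i e) * f' := by
      have a1 := cW P D f' hf' w4 hw4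
      have a2 := cQ2 P D hf' he
      exact (comm_mul a1.symm a2.symm).symm
    have c2 : w4 * i e = i e * w4 := centJ' P D hw4 (b := 2) (c := 6) (by norm_num) (by norm_num) (S.Q2_le_J he)
    have c3 : (w4 * i e) * (w4 * i e) = 1 := by
      calc (w4 * i e) * (w4 * i e) = w4 * (i e * w4) * i e := by group
        _ = (w4 * w4) * (i e * i e) := by rw [← c2]; group
        _ = 1 := by rw [D.sq hw4, ← map_mul, Q2_sq he, map_one, mul_one]
    have c4 : f * f = f' * f' := by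
      rw [h3]
      calc f' * (w4 * i e) * (f' * (w4 * i e)) = f' * ((w4 * i e) * f') * (w4 * i e) := by group
        _ = (f' * f') * ((w4 * i e) * (w4 * i e)) := by rw [← c1]; group
        _ = _ := by rw [c3, mul_one]
    rw [hff, hff'] at c4
    have := (S.injE 2 _ _ _ _ (P.inj c4)).2
    rw [this, Units.val_one, map_one]
  have const' : ∀ y : F, y ≠ 0 → g y = g 1 := by
    intro y hy
    obtain ⟨x, rfl⟩ := Arc.σ_surj σ y
    have hx : x ≠ 0 := fun h => hy (by rw [h, map_zero])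
    exact const (Units.mk0 x hx)
  have g0 : g 0 = 0 := by
    have := gadd 0 0
    rw [add_zero] at this
    exact left_eq_add.1 this
  have g1 : g 1 = 0 := by
    obtain ⟨n, hn⟩ := exists_unit P.big
    have h1 : (n : F) + 1 ≠ 0 := by
      intro h
      apply hn
      apply Units.ext
      have h2 : (n : F) = -1 := eq_neg_of_add_eq_zero_left h
      rw [h2, S.neg_one_eq, Units.val_one]
    have h2 := gadd n 1
    rw [const' _ h1, const' _ n.ne_zero] at h2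
    exact left_eq_add.1 h2
  have gz : ∀ y, g y = 0 := by
    intro y
    by_cases hy : y = 0
    · rw [hy, g0]
    · rw [const' y hy, g1]
  obtain ⟨u, hu⟩ := tau' P D hw
  obtain ⟨v, hv⟩ := tau' P D hw'
  have h := hg u v w w' hw hw' hu hv
  rw [gz, S.e_zero, map_one] at h
  exact comm_of_brk h

/-! ### `F_4` is elementary abelian -/

theorem conj18 {y : Y} (hy : y ∈ J S.XZ 1 8) {w : G} (hw : w ∈ W 3) : ∃ w4 ∈ W 2, i y * w * (i y)⁻¹ = w4 * w := by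
  obtain ⟨x, hx, r, hr, rfl⟩ := S.zsys8.split_ll (a := 1) (b := 8) (by norm_num) (by norm_num) hy
  have h2 : w * i r = i r * w := centJ' P D hw (b := 1 + 1) (c := 8) (by norm_num) (by norm_num) hr
  have h3 := inv_mem (D.two 2 w hw x hx)
  rw [brk_inv] at h3
  refine ⟨_, h3, ?_⟩
  rw [map_mul]
  calc i x * i r * w * (i x * i r)⁻¹ = i x * (i r * w) * (i r)⁻¹ * (i x)⁻¹ := by group
    _ = _ := by rw [← h2]; group

theorem pair {w w' : G} (hw : w ∈ W 3) (hw' : w' ∈ W 3) {y : Y} (hy : y ∈ S.PL) :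
    w * (i y * w' * (i y)⁻¹) = (i y * w' * (i y)⁻¹) * w := by
  rcases S.form_PL hy with ⟨b, hb, s, hs, rfl⟩ | ⟨b, hb, s, hs, x, hx, rfl⟩
  · have h1 := TW P D hs hw'
    obtain ⟨w4, hw4, h2⟩ := conj18 P D hb h1
    have e : i (b * s) * w' * (i (b * s))⁻¹ = w4 * (i s * w' * (i s)⁻¹) := by
      rw [← h2, map_mul]; group
    rw [e]
    exact (comm_mul (D.one 2 w4 hw4 w hw) (D.ab h1 hw)).symm
  · have h1 : i S.n2 * w' * (i S.n2)⁻¹ ∈ W 1 := by
      have := n2W P D hw'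
      norm_num at this
      exact this
    have h2 := TW P D hs h1
    have h3 : w' * i x = i x * w' := centX P D hw' (k := 8) (by norm_num) (by norm_num) hx
    obtain ⟨w4, hw4, h4⟩ := conj18 P D (inv_mem hb) hw
    obtain ⟨w1, hw1⟩ : ∃ w1, w1 = i s * (i S.n2 * w' * (i S.n2)⁻¹) * (i s)⁻¹ := ⟨_, rfl⟩
    rw [← hw1] at h2
    have e : i (b * (s * S.n2) * x) * w' * (i (b * (s * S.n2) * x))⁻¹ = i b * w1 * (i b)⁻¹ := by
      rw [hw1]
      simp only [map_mul]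
      calc i b * (i s * i S.n2) * i x * w' * (i b * (i s * i S.n2) * i x)⁻¹ =
          i b * (i s * i S.n2) * (i x * w') * (i x)⁻¹ * (i b * (i s * i S.n2))⁻¹ := by group
        _ = _ := by rw [← h3]; group
    rw [e]
    rw [map_inv, inv_inv] at h4
    have h5 : w1 * (w4 * w) = (w4 * w) * w1 :=
      (comm_mul (D.one 1 w1 h2 w4 hw4).symm (comm26 P D h2 hw).symm).symm
    rw [← h4] at h5
    calc w * (i b * w1 * (i b)⁻¹) = i b * (((i b)⁻¹ * w * i b) * w1) * (i b)⁻¹ := by group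
      _ = _ := by rw [← h5]; group

theorem commG : ∀ f ∈ FF S i W 2, ∀ y ∈ S.PL, ∀ w' ∈ W 3, f * (i y * w' * (i y)⁻¹) = (i y * w' * (i y)⁻¹) * f := by
  refine FF_ind (fun w hw y hy w' hw' => ?_) (fun g hg w hw y hy w' hw' => ?_) (fun y hy w' hw' => by rw [one_mul, mul_one])
    (fun a b _ _ ha hb y hy w' hw' => comm_mul (ha y hy w' hw') (hb y hy w' hw'))
    (fun a _ ha y hy w' hw' => comm_inv (ha y hy w' hw'))
  · exact (cW P D _ (W_FF' (a := 2) (of_PL P D hy) hw') w hw).symm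
  · have h1 := pair P D hw hw' (mul_mem (inv_mem (PL_of P D hg)) hy)
    have e : i g * w * (i g)⁻¹ * (i y * w' * (i y)⁻¹) =
        i g * (w * (i (g⁻¹ * y) * w' * (i (g⁻¹ * y))⁻¹)) * (i g)⁻¹ := by
      rw [map_mul, map_inv]; group
    rw [e, h1, map_mul, map_inv]; group

/-- **`F_4` is abelian** -/
theorem FF_comm : ∀ g ∈ FF S i W 2, ∀ f ∈ FF S i W 2, g * f = f * g := by
  refine FF_ind (fun w hw f hf => (cW P D f hf w hw).symm) (fun y hy w hw f hf => ?_) (fun f hf => by rw [one_mul, mul_one])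
    (fun a b _ _ ha hb f hf => comm_mul (ha f hf) (hb f hf)) (fun a _ ha f hf => comm_inv (ha f hf))
  exact (commG P D f hf y (PL_of P D hy) w hw).symm

/-- **`F_4` is elementary abelian** -/
theorem FF_sq : ∀ f ∈ FF S i W 2, f * f = 1 := by
  refine FF_ind (fun w hw => D.sq hw) (fun y hy w hw => ?_) (mul_one 1) (fun a b ha' hb' ha hb => ?_) (fun a ha' ha => ?_)
  · calc i y * w * (i y)⁻¹ * (i y * w * (i y)⁻¹) = i y * (w * w) * (i y)⁻¹ := by group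
      _ = 1 := by rw [D.sq hw]; group
  · have h := FF_comm P D a ha' b hb'
    calc a * b * (a * b) = a * (b * a) * b := by group
      _ = (a * a) * (b * b) := by rw [← h]; group
      _ = 1 := by rw [ha, hb, mul_one]
  · rw [← mul_inv_rev, ha, inv_one]

end dbl

end Cfsg.Agent.OddHalf.D7TwF4.Mid.Ab
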