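import Cfsg.Agent.OddHalf.D7TwF4.Defs
import Cfsg.Agent.OddHalf.D7TwF4.Growth.Tools
import Cfsg.Agent.KFacts.TwF4.TorFix

/-!
# `²F₄(q)`: sections 2 and 3 of bb ODD 13028 (helper427), basic facts on the doubles `W a`
-/

set_option autoImplicit false
set_option linter.unusedSectionVars false
set_option linter.style.haveILetI false
set_option linter.unusedVariables false

namespace Cfsg.Agent.OddHalf.D7TwF4.Mid.Basic

open Cfsg.Agent.KFacts.TwF4 Cfsg.Agent.SplitTwo.ZS Cfsg.Agent.OddHalf.D7TwF4.Defs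

universe u v w

variable {F : Type w} [Field F] {σ : F →+* F} {Y : Type u} [Group Y] {G : Type v} [Group G]
variable {S : Full σ Y} {i : Y →* G} {t : G} {W : ℤ → Subgroup G}

/-- conjugation by `t` -/
def tc (t : G) : G →* G := (MulAut.conj t).toMonoidHom

theorem tc_def (t g : G) : tc t g = t * g * t⁻¹ := rfl

section pos

variable (P : Pos S i t)
include P

theorem tc_eq (g : G) : tc t g = t * g * t := by rw [tc_def, P.t_inv]

theorem tc_tc (g : G) : tc t (tc t g) = g := by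
  rw [tc_eq P, tc_eq P]
  calc t * (t * g * t) * t = (t * t) * g * (t * t) := by group
    _ = g := by rw [P.tt]; group

theorem tc_i (y : Y) : tc t (i y) = i y := by
  rw [tc_def, P.ti]; group

theorem tc_comm {g : G} (h : tc t g = g) : g * t = t * g := by
  rw [tc_def, mul_inv_eq_iff_eq_mul] at h
  exact h.symm

theorem tc_of_comm {g : G} (h : g * t = t * g) : tc t g = g := by
  rw [tc_def, ← h]; group

end pos

/-! ### facts inside `Y` -/

theorem zc_comm {a : ZMod 8} {x y : Y} (hx : x ∈ S.Zc a) (hy : y ∈ S.Zc a) : x * y = y * x := by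
  obtain ⟨u, rfl⟩ := hx
  obtain ⟨v, rfl⟩ := hy
  rw [S.e_mul, S.e_mul]
  simp only [zero_mul, add_zero, add_comm]

theorem zc_sq {a : ZMod 8} {x : Y} (hx : x ∈ S.Zc a) : x * x = 1 := by
  obtain ⟨u, rfl⟩ := hx
  rw [S.e_mul, add_zero, map_zero, mul_zero, add_zero, S.add_self, S.e_zero]

/-- `X_{2a-4}, …, X_{2a+4}` centralise `Z_{2a}` -/
theorem J_comm_Zc [Finite F] {a : ℤ} {y z : Y} (hy : y ∈ J S.XZ (2 * a - 4) (2 * a + 4)) (hz : z ∈ S.Zc (a : ZMod 8)) :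
    y * z = z * y := by
  by_cases h : z = 1
  · rw [h, mul_one, one_mul]
  · rw [← S.centralizer_Zc a hz h] at hy
    exact Subgroup.mem_centralizer_singleton_iff.1 hy

theorem mem_J_of_comm [Finite F] {a : ℤ} {y : Y} (hy : ∀ z ∈ S.Zc (a : ZMod 8), y * z = z * y) :
    y ∈ J S.XZ (2 * a - 4) (2 * a + 4) := by
  have h1 : S.e (a : ZMod 8) 0 1 ≠ 1 := fun h => one_ne_zero (S.e_eq_one h).2
  rw [← S.centralizer_Zc a ⟨1, rfl⟩ h1]
  exact Subgroup.mem_centralizer_singleton_iff.2 (hy _ ⟨1, rfl⟩)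

/-- rotation of `Z` -/
theorem rot_Zc (m : ℤ) (a : ZMod 8) (z : Y) : z ∈ S.Zc a ↔ S.rot ^ m * z * (S.rot ^ m)⁻¹ ∈ S.Zc (a + (m : ZMod 8)) := by
  constructor
  · rintro ⟨u, rfl⟩
    exact ⟨u, (S.rotk_e m a 0 u).symm⟩
  · rintro ⟨u, hu⟩
    refine ⟨u, ?_⟩
    rw [← S.rotk_e m a 0 u] at hu
    have := congrArg (fun y => (S.rot ^ m)⁻¹ * y * S.rot ^ m) hu
    simpa [mul_assoc] using this

/-- reflection of `Z` -/
theorem n2_Zc (a : ZMod 8) (z : Y) : z ∈ S.Zc a ↔ S.n2 * z * S.n2⁻¹ ∈ S.Zc (4 - a) := by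
  constructor
  · rintro ⟨u, rfl⟩
    exact ⟨u, (S.n2_e a 0 u).symm⟩
  · rintro ⟨u, hu⟩
    refine ⟨u, ?_⟩
    rw [← S.n2_e a 0 u] at hu
    have := congrArg (fun y => S.n2⁻¹ * y * S.n2) hu
    simpa [mul_assoc] using this

theorem T_Zc {h : Y} (hh : h ∈ S.T) (a : ZMod 8) (z : Y) : z ∈ S.Zc a ↔ h * z * h⁻¹ ∈ S.Zc a := by
  refine ⟨fun hz => S.T_conj_Zc hh hz, fun hz => ?_⟩
  have := S.T_conj_Zc (inv_mem hh) hz
  have e : h⁻¹ * (h * z * h⁻¹) * h⁻¹⁻¹ = z := by group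
  rwa [e] at this

/-- elements centralising `Z` pointwise -/
theorem cent_Zc {g : Y} {a : ZMod 8} (hg : ∀ z ∈ S.Zc a, g * z = z * g) (z : Y) :
    z ∈ S.Zc a ↔ g * z * g⁻¹ ∈ S.Zc a := by
  constructor
  · intro hz
    rw [hg z hz]
    have : z * g * g⁻¹ = z := by group
    rwa [this]
  · intro hz
    have h1 := hg _ hz
    have h2 : g * z * g⁻¹ = z := by
      have := congrArg (fun y => g⁻¹ * y) h1
      have e1 : g⁻¹ * (g * (g * z * g⁻¹)) = g * z * g⁻¹ := by group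
      have e2 : g⁻¹ * (g * z * g⁻¹ * g) = z := by group
      simp only [e1, e2] at this
      exact this
    rwa [h2] at hz

/-! ### the doubles -/

section dbl

variable (P : Pos S i t) (D : WData S i t W)
include P D

/-- `[w, t] ∈ Z` -/
theorem tau {a : ℤ} {w : G} (hw : w ∈ W a) : ∃ z ∈ S.Zc (a : ZMod 8), tc t w = w * i z := by
  obtain ⟨z, hz, h⟩ := D.comm hw
  exact ⟨z, hz, by rw [tc_eq P, h]⟩

theorem tau' {a : ℤ} {w : G} (hw : w ∈ W a) : ∃ u, tc t w = w * i (S.e (a : ZMod 8) 0 u) := by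
  obtain ⟨z, ⟨u, rfl⟩, h⟩ := tau P D hw
  exact ⟨u, h⟩

theorem sur (a : ℤ) (u : F) : ∃ w ∈ W a, tc t w = w * i (S.e (a : ZMod 8) 0 u) := by
  obtain ⟨w, hw, h⟩ := D.sur a _ ⟨u, rfl⟩
  exact ⟨w, hw, by rw [tc_eq P, h]⟩

/-- `W_{2a}` is centralised by `X_{2a-4}, …, X_{2a+4}` -/
theorem centJ {a : ℤ} {w : G} (hw : w ∈ W a) {y : Y} (hy : y ∈ J S.XZ (2 * a - 4) (2 * a + 4)) : w * i y = i y * w := by
  haveI := P.finF
  exact D.cent hw fun z hz => J_comm_Zc hy hz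

theorem centX {a : ℤ} {w : G} (hw : w ∈ W a) {k : ℤ} (h1 : 2 * a - 4 ≤ k) (h2 : k ≤ 2 * a + 4) {y : Y}
    (hy : y ∈ S.XZ k) : w * i y = i y * w := centJ P D hw (mem_J hy h1 h2)

theorem centJ' {a : ℤ} {w : G} (hw : w ∈ W a) {b c : ℤ} (h1 : 2 * a - 4 ≤ b) (h2 : c ≤ 2 * a + 4) {y : Y}
    (hy : y ∈ J S.XZ b c) : w * i y = i y * w := centJ P D hw (J_mono h1 h2 hy)

/-- `Z ≤ W` -/
theorem Zc_W (a : ℤ) {z : Y} (hz : z ∈ S.Zc (a : ZMod 8)) : i z ∈ W a := by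
  refine (D.mem a _).2 ⟨by rw [← map_mul, zc_sq hz, map_one], fun y hy => ?_, ⟨1, one_mem _, ?_⟩, ?_⟩
  · rw [← map_mul, ← map_mul, hy z hz]
  · rw [map_one, mul_one]
    calc t * i z * t = (t * i z) * t := rfl
      _ = i z * (t * t) := by rw [P.ti]; group
      _ = i z := by rw [P.tt, mul_one]
  · rintro ⟨z', -, h⟩
    exact P.t_mul_ne h.symm

/-- `C_W(t) = Z` -/
theorem W_fix {a : ℤ} {w : G} (hw : w ∈ W a) (hf : tc t w = w) : ∃ z ∈ S.Zc (a : ZMod 8), w = i z := by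
  haveI := P.finF
  have h0 : ∀ z ∈ S.Zc (a : ZMod 8), z ∈ (J S.XZ (2 * a - 4) (2 * a + 4) : Set Y) := fun z hz =>
    mem_J_of_comm fun z' hz' => zc_comm hz hz'
  obtain ⟨y, hy, h⟩ := P.lift (A := (J S.XZ (2 * a - 4) (2 * a + 4) : Set Y)) h0 (tc_comm P hf)
    (fun y hy => centJ P D hw hy)
  have h2 : y ∈ S.Zc (a : ZMod 8) := by
    rw [← S.centralizer_J a]
    exact Subgroup.centralizer_le (J_mono (by omega) (by omega)) hy
  rcases h with h | h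
  · exact ⟨y, h2, h⟩
  · exact absurd ⟨y, h2, h⟩ (D.notMem hw)

/-- the action of elements of `Y` on the doubles -/
theorem conjW {a b : ℤ} {g : Y} (hg : ∀ z, z ∈ S.Zc (a : ZMod 8) ↔ g * z * g⁻¹ ∈ S.Zc (b : ZMod 8)) {w : G}
    (hw : w ∈ W a) : i g * w * (i g)⁻¹ ∈ W b := D.conj P.ti hg hw

theorem rotW (m : ℤ) {a : ℤ} {w : G} (hw : w ∈ W a) : i (S.rot ^ m) * w * (i (S.rot ^ m))⁻¹ ∈ W (a + m) := by
  refine conjW P D (fun z => ?_) hw
  have := rot_Zc (S := S) m (a : ZMod 8) z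
  push_cast
  exact this

theorem n2W {a : ℤ} {w : G} (hw : w ∈ W a) : i S.n2 * w * (i S.n2)⁻¹ ∈ W (4 - a) := by
  refine conjW P D (fun z => ?_) hw
  have := n2_Zc (S := S) (a : ZMod 8) z
  push_cast
  exact this

theorem TW {h : Y} (hh : h ∈ S.T) {a : ℤ} {w : G} (hw : w ∈ W a) : i h * w * (i h)⁻¹ ∈ W a :=
  conjW P D (fun z => T_Zc hh _ z) hw

theorem TkW {a : ℤ} {h : Y} (hh : h ∈ S.Tk (2 * a)) {w : G} (hw : w ∈ W a) : w * i h = i h * w :=
  D.cent hw fun z hz => S.Tk_comm hh (S.Zc_le a hz)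

/-- fixed point free action on the doubles -/
theorem freeW {a : ℤ} {h : Y} (hf : ∀ z ∈ S.Zc (a : ZMod 8), h * z * h⁻¹ = z → z = 1) {w : G} (hw : w ∈ W a)
    (hfx : i h * w * (i h)⁻¹ = w) : w = 1 := by
  obtain ⟨z, hz, h1⟩ := tau P D hw
  have h2 : h * z * h⁻¹ = z := by
    apply P.inj
    have h3 := congrArg (tc t) hfx
    rw [map_mul, map_mul, map_inv, tc_i P, h1] at h3
    have h4 : i h * (w * i z) * (i h)⁻¹ = (i h * w * (i h)⁻¹) * (i h * i z * (i h)⁻¹) := by group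
    rw [h4, hfx] at h3
    rw [map_mul, map_mul, map_inv]
    exact mul_left_cancel h3
  have h5 := hf z hz h2
  rw [h5, map_one, mul_one] at h1
  obtain ⟨z', hz', rfl⟩ := W_fix P D hw h1
  have h6 : h * z' * h⁻¹ = z' := by
    apply P.inj
    rw [map_mul, map_mul, map_inv]; exact hfx
  rw [hf z' hz' h6, map_one]

/-- two elements of `W a` with the same image under `[·, t]` -/
theorem W_eq {a : ℤ} {w w' : G} (hw : w ∈ W a) (hw' : w' ∈ W a) {y : G} (h : tc t w = w * y) (h' : tc t w' = w' * y) :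
    ∃ z ∈ S.Zc (a : ZMod 8), w' = w * i z := by
  have h1 : tc t (w * w'⁻¹) = w * w'⁻¹ := by
    rw [map_mul, map_inv, h, h']; group
  obtain ⟨z, hz, h2⟩ := W_fix P D (mul_mem hw (inv_mem hw')) h1
  refine ⟨z, hz, ?_⟩
  have h3 : w * w' = w' * w := D.ab hw hw'
  have h4 : w'⁻¹ = w' := inv_eq_of_mul_eq_one_left (D.sq hw')
  have h5 : w * w = 1 := D.sq hw
  rw [h4] at h2
  rw [← h2]
  calc w' = (w * w) * w' := by rw [h5, one_mul]
    _ = _ := by group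

end dbl

end Cfsg.Agent.OddHalf.D7TwF4.Mid.Basic
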