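import Cfsg.Agent.OddHalf.D7TwF4.Mid.Pair

/-!
# `²F₄(q)`: the group `F_4 = W_4 ⟨W_6 ^ P_4⟩` (helper427)
-/

set_option autoImplicit false
set_option linter.unusedSectionVars false
set_option linter.style.haveILetI false
set_option linter.unusedVariables false

namespace Cfsg.Agent.OddHalf.D7TwF4.Mid.Four

open Cfsg.Agent.KFacts.TwF4 Cfsg.Agent.SplitTwo.ZS Cfsg.Agent.OddHalf.D7TwF4.Defs
open Cfsg.Agent.OddHalf.D7TwF4.Mid.Basic Cfsg.Agent.OddHalf.D7TwF4.Growth.Tools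
open Cfsg.Agent.OddHalf.D7TwF4.Mid.Pair
open Cfsg.Agent.OddHalf.D7TwF4.Growth.Defs (Nz)

universe u v w

variable {F : Type w} [Field F] {σ : F →+* F} {Y : Type u} [Group Y] {G : Type v} [Group G]
variable {S : Full σ Y} {i : Y →* G} {t : G} {W : ℤ → Subgroup G}

/-! ### facts inside `Y` -/

/-- `PL` normalises `Q1` -/
theorem Q1_conj [Finite F] {g x : Y} (hg : g ∈ S.PL) (hx : x ∈ S.Q1) : g * x * g⁻¹ ∈ S.Q1 := by
  rw [← S.centralizer_Q2, Subgroup.mem_centralizer_iff] at hx ⊢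
  intro y hy
  have h1 : g⁻¹ * y * g ∈ S.Q2 := by
    have := (Subgroup.mem_normalizer_iff.1 (inv_mem (S.Q2_norm hg)) y).1 hy
    rwa [inv_inv] at this
  have h2 := hx _ h1
  calc y * (g * x * g⁻¹) = g * ((g⁻¹ * y * g) * x) * g⁻¹ := by group
    _ = _ := by rw [h2]; group

theorem Q2_conj {g x : Y} (hg : g ∈ S.PL) (hx : x ∈ S.Q2) : g * x * g⁻¹ ∈ S.Q2 :=
  (Subgroup.mem_normalizer_iff.1 (S.Q2_norm hg) x).1 hx

theorem Q_conj {g x : Y} (hg : g ∈ S.PL) (hx : x ∈ J S.XZ 1 7) : g * x * g⁻¹ ∈ J S.XZ 1 7 :=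
  S.zsys8.conj_J (a := 1) (b := 7) (c := 0) (d := 8) (by norm_num) (by norm_num) (by norm_num) hg hx

theorem Q2_le_Q1 : S.Q2 ≤ S.Q1 := le_sup_right

theorem Q2_sq {x : Y} (hx : x ∈ S.Q2) : x * x = 1 := by
  let K : Subgroup Y :=
    { carrier := {x | x ∈ S.Q2 ∧ x * x = 1}
      one_mem' := ⟨one_mem _, mul_one 1⟩
      mul_mem' := by
        rintro a b ⟨ha, ha'⟩ ⟨hb, hb'⟩
        refine ⟨mul_mem ha hb, ?_⟩
        have h1 := S.Q1_comm (Q2_le_Q1 ha) hb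
        calc a * b * (a * b) = a * (b * a) * b := by group
          _ = (a * a) * (b * b) := by rw [← h1]; group
          _ = 1 := by rw [ha', hb', mul_one]
      inv_mem' := by
        rintro a ⟨ha, ha'⟩
        refine ⟨inv_mem ha, ?_⟩
        rw [← mul_inv_rev, ha', inv_one] }
  have ho : ∀ (a : ZMod 8) (s : F), S.o a s * S.o a s = 1 := fun a s => by rw [S.o_add, S.add_self, S.o_zero]
  have he : ∀ (a : ZMod 8) (s : F), S.e a 0 s * S.e a 0 s = 1 := fun a s => zc_sq ⟨s, rfl⟩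
  have hK : S.Q2 ≤ K := S.Q2_le (fun u => ⟨S.q2_1 u, he _ _⟩) (fun s => ⟨S.q2_2 s, ho _ _⟩) (fun u => ⟨S.q2_3 u, he _ _⟩)
    (fun s => ⟨S.q2_4 s, ho _ _⟩) (fun u => ⟨S.q2_5 u, he _ _⟩)
  exact (hK hx).2

/-- `Z(X_4) = Z_4` -/
theorem X4_center (hc : ∃ w : Fˣ, w ≠ 1) {p u : F} (h : ∀ p', S.e 2 p u * S.e 2 p' 0 = S.e 2 p' 0 * S.e 2 p u) : p = 0 := by
  have h1 : ∀ p', p * σ p' = p' * σ p := by
    intro p'
    have h2 := h p'
    rw [S.e_mul, S.e_mul] at h2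
    have h3 := (S.injE 2 _ _ _ _ h2).2
    rw [add_zero, zero_add] at h3
    exact add_left_cancel h3
  by_contra hp
  obtain ⟨w, hw⟩ := hc
  have h2 : σ p = p := by
    have := h1 1
    rw [map_one, mul_one, one_mul] at this
    exact this.symm
  have h3 : ∀ x, σ x = x := by
    intro x
    have := h1 x
    rw [h2, mul_comm x] at this
    exact mul_left_cancel₀ hp this
  apply hw
  have h4 : (w : F) ^ 2 = w := by rw [← S.sq, h3, h3]
  have h5 : (w : F) * w = w * 1 := by rw [← pow_two, h4, mul_one]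
  exact Units.ext (mul_left_cancel₀ w.ne_zero h5)

/-! ### the group `F` -/

/-- `W_{2a} ⟨W_{2a+2} ^ C(Z_{2a})⟩` -/
def FF (S : Full σ Y) (i : Y →* G) (W : ℤ → Subgroup G) (a : ℤ) : Subgroup G :=
  Subgroup.closure {g | g ∈ W a ∨ ∃ y, (∀ z ∈ S.Zc (a : ZMod 8), y * z = z * y) ∧ ∃ w ∈ W (a + 1), g = i y * w * (i y)⁻¹}

theorem W_FF (a : ℤ) {w : G} (hw : w ∈ W a) : w ∈ FF S i W a := Subgroup.subset_closure (Or.inl hw)

theorem W_FF' {a : ℤ} {y : Y} (hy : ∀ z ∈ S.Zc (a : ZMod 8), y * z = z * y) {w : G} (hw : w ∈ W (a + 1)) :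
    i y * w * (i y)⁻¹ ∈ FF S i W a := Subgroup.subset_closure (Or.inr ⟨y, hy, w, hw, rfl⟩)

theorem FF_ind {a : ℤ} {p : G → Prop} (h1 : ∀ w ∈ W a, p w)
    (h2 : ∀ y, (∀ z ∈ S.Zc (a : ZMod 8), y * z = z * y) → ∀ w ∈ W (a + 1), p (i y * w * (i y)⁻¹)) (one : p 1)
    (mul : ∀ x y, x ∈ FF S i W a → y ∈ FF S i W a → p x → p y → p (x * y)) (inv : ∀ x, x ∈ FF S i W a → p x → p x⁻¹) :
    ∀ f ∈ FF S i W a, p f := by
  intro f hf
  induction hf using Subgroup.closure_induction with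
  | mem x hx =>
    rcases hx with hx | ⟨y, hy, w, hw, rfl⟩
    · exact h1 x hx
    · exact h2 y hy w hw
  | one => exact one
  | mul x y hx hy hpx hpy => exact mul x y hx hy hpx hpy
  | inv x hx hpx => exact inv x hx hpx

section dbl

variable (P : Pos S i t) (D : WData S i t W)
include P D

theorem PL_of {y : Y} (hy : ∀ z ∈ S.Zc ((2 : ℤ) : ZMod 8), y * z = z * y) : y ∈ S.PL := by
  haveI := P.finF
  have := mem_J_of_comm hy
  exact this

theorem of_PL {y : Y} (hy : y ∈ S.PL) : ∀ z ∈ S.Zc ((2 : ℤ) : ZMod 8), y * z = z * y := fun z hz =>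
  S.comm_PL hy hz

/-- `F_4` is normalised by elements centralising `Z_4` -/
theorem FF_conj {a : ℤ} {g : Y} (hg : ∀ z ∈ S.Zc (a : ZMod 8), g * z = z * g) : ∀ f ∈ FF S i W a, i g * f * (i g)⁻¹ ∈ FF S i W a := by
  refine FF_ind (fun w hw => ?_) (fun y hy w hw => ?_) ?_ (fun x y _ _ hx hy => ?_) (fun x _ hx => ?_)
  · exact W_FF a (conjW P D (cent_Zc hg) hw)
  · have e : i g * (i y * w * (i y)⁻¹) * (i g)⁻¹ = i (g * y) * w * (i (g * y))⁻¹ := by rw [map_mul]; group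
    rw [e]
    refine W_FF' (fun z hz => ?_) hw
    rw [mul_assoc, hy z hz, ← mul_assoc, hg z hz, mul_assoc]
  · rw [mul_one, mul_inv_cancel]; exact one_mem _
  · have e : i g * (x * y) * (i g)⁻¹ = (i g * x * (i g)⁻¹) * (i g * y * (i g)⁻¹) := by group
    rw [e]; exact mul_mem hx hy
  · have e : i g * x⁻¹ * (i g)⁻¹ = (i g * x * (i g)⁻¹)⁻¹ := by group
    rw [e]; exact inv_mem hx

/-- (F1) `F_4` centralises `Q1` -/
theorem cQ1 : ∀ f ∈ FF S i W 2, ∀ y ∈ S.Q1, f * i y = i y * f := by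
  haveI := P.finF
  refine FF_ind (fun w hw y hy => ?_) (fun g hg w hw y hy => ?_) (fun y hy => ?_) (fun a b _ _ ha hb y hy => ?_)
    (fun a _ ha y hy => ?_)
  · exact centJ' P D hw (b := 2) (c := 6) (by norm_num) (by norm_num) (S.Q1_le_J hy)
  · have hg' := PL_of P D hg
    have h1 := Q1_conj (inv_mem hg') hy
    have h2 := centJ' P D hw (b := 2) (c := 6) (by norm_num) (by norm_num) (S.Q1_le_J h1)
    rw [inv_inv, map_mul, map_mul, map_inv] at h2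
    calc i g * w * (i g)⁻¹ * i y = i g * (w * ((i g)⁻¹ * i y * i g)) * (i g)⁻¹ := by group
      _ = _ := by rw [h2]; group
  · rw [one_mul, mul_one]
  · exact comm_mul (ha y hy) (hb y hy)
  · exact comm_inv (ha y hy)

theorem cQ2 {f : G} (hf : f ∈ FF S i W 2) {y : Y} (hy : y ∈ S.Q2) : f * i y = i y * f :=
  cQ1 P D f hf y (Q2_le_Q1 hy)

/-- (F2) `[F_4, t] ≤ Q2` -/
theorem tauF : ∀ f ∈ FF S i W 2, ∃ e ∈ S.Q2, tc t f = f * i e := by
  refine FF_ind (fun w hw => ?_) (fun g hg w hw => ?_) ⟨1, one_mem _, by simp⟩ (fun a b ha' hb' ha hb => ?_)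
    (fun a ha' ha => ?_)
  · obtain ⟨z, ⟨u, rfl⟩, hz⟩ := tau P D hw
    exact ⟨_, S.q2_3 u, hz⟩
  · obtain ⟨z, ⟨u, rfl⟩, hz⟩ := tau P D hw
    refine ⟨g * S.e 3 0 u * g⁻¹, Q2_conj (PL_of P D hg) (S.q2_5 u), ?_⟩
    simp only [map_mul, map_inv, tc_i P, hz]
    have : S.e (((2 + 1 : ℤ)) : ZMod 8) 0 u = S.e 3 0 u := rfl
    rw [this]; group
  · obtain ⟨e, he, h1⟩ := ha
    obtain ⟨e', he', h2⟩ := hb
    refine ⟨e * e', mul_mem he he', ?_⟩
    rw [map_mul, h1, h2, map_mul]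
    have := cQ2 P D hb' he
    calc a * i e * (b * i e') = a * (i e * b) * i e' := by group
      _ = _ := by rw [← this]; group
  · obtain ⟨e, he, h1⟩ := ha
    refine ⟨e⁻¹, inv_mem he, ?_⟩
    have := cQ2 P D ha' he
    rw [map_inv, h1, map_inv, this, mul_inv_rev]

/-- (F3) `W_4` is central in `F_4` -/
theorem cW : ∀ f ∈ FF S i W 2, ∀ w ∈ W 2, f * w = w * f := by
  refine FF_ind (fun w hw w' hw' => D.ab hw hw') (fun g hg w hw w' hw' => ?_) (fun w' hw' => by rw [one_mul, mul_one])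
    (fun a b _ _ ha hb w' hw' => comm_mul (ha w' hw') (hb w' hw')) (fun a _ ha w' hw' => comm_inv (ha w' hw'))
  have h1 : w' * i g = i g * w' := centJ P D hw' (PL_of P D hg)
  have h2 : w' * w = w * w' := D.one 2 w' hw' w hw
  have h3 : w' * (i g)⁻¹ = (i g)⁻¹ * w' := (comm_inv h1.symm).symm
  calc i g * w * (i g)⁻¹ * w' = i g * w * ((i g)⁻¹ * w') := by group
    _ = i g * (w * w') * (i g)⁻¹ := by rw [← h3]; group
    _ = (i g * w') * w * (i g)⁻¹ := by rw [← h2]; group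
    _ = _ := by rw [← h1]; group

/-- (F4) `C_{F_4}(t) ≤ Q2` -/
theorem fixF {f : G} (hf : f ∈ FF S i W 2) (hfx : tc t f = f) : ∃ e ∈ S.Q2, f = i e := by
  haveI := P.finF
  obtain ⟨y, hy, h⟩ := P.lift (A := (S.Q2 : Set Y)) (a := 2) (fun z hz => by
    obtain ⟨u, rfl⟩ := hz; exact S.q2_3 u) (tc_comm P hfx) (fun y hy => cQ2 P D hf hy)
  rw [S.centralizer_Q2] at hy
  have hfy : f = i y := by
    rcases h with h | h
    · exact h
    · exfalso
      obtain ⟨w, hw, h1⟩ := sur P D 2 1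
      have h2 := cW P D f hf w hw
      have h3 := centJ' P D hw (b := 2) (c := 6) (by norm_num) (by norm_num) (S.Q1_le_J hy)
      rw [h] at h2
      have h4 := comm_of_mul' h2 h3.symm
      have h5 : tc t w = w := by rw [tc_def, h4]; group
      rw [h5] at h1
      have h6 : i (S.e ((2 : ℤ) : ZMod 8) 0 1) = i 1 := by rw [map_one]; exact (left_eq_mul.1 h1)
      exact one_ne_zero (S.e_eq_one (P.inj h6)).2
  refine ⟨y, ?_, hfy⟩
  obtain ⟨x, hx, e, he, hxe⟩ := mem_sup_of_norm (A := S.XZ 4) (B := S.Q2) (fun a ha b hb => by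
    rw [S.Q1_comm (Subgroup.mem_sup_left ha) hb, mul_inv_cancel_right]; exact hb) hy
  obtain ⟨p, u, rfl⟩ := S.X4 hx
  have hp : p = 0 := by
    refine X4_center (S := S) (u := u) (exists_unit P.big) (fun p' => ?_)
    have h1 := cQ1 P D f hf (S.e 2 p' 0) (Subgroup.mem_sup_left (S.mX4 p' 0))
    rw [hfy, ← map_mul, ← map_mul] at h1
    have h2 := P.inj h1
    rw [hxe] at h2
    exact comm_of_mul' h2 (S.Q1_comm (Subgroup.mem_sup_left (S.mX4 p' 0)) he).symm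
  rw [hxe, hp]
  exact mul_mem (S.q2_3 u) he

/-- (F5) -/
theorem splitF {f : G} (hf : f ∈ FF S i W 2) {z : Y} (hz : z ∈ S.Zc 2) (h : tc t f = f * i z) :
    ∃ w ∈ W 2, ∃ e ∈ S.Q2, f = w * i e := by
  obtain ⟨u, rfl⟩ := hz
  obtain ⟨w, hw, h1⟩ := sur P D 2 u
  have h2 : tc t (w⁻¹ * f) = w⁻¹ * f := by
    rw [map_mul, map_inv, h, h1]
    have h3 : w * i (S.e ((2 : ℤ) : ZMod 8) 0 u) = i (S.e ((2 : ℤ) : ZMod 8) 0 u) * w :=
      centX P D hw (k := 4) (by norm_num) (by norm_num) (S.mX4 0 u)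
    have h4 : f * i (S.e 2 0 u) = i (S.e 2 0 u) * f := cQ2 P D hf (S.q2_3 u)
    rw [h4, h3, mul_inv_rev]
    have : S.e ((2 : ℤ) : ZMod 8) 0 u = S.e 2 0 u := rfl
    rw [this]; group
  obtain ⟨e, he, h3⟩ := fixF P D (mul_mem (inv_mem (W_FF 2 hw)) hf) h2
  exact ⟨w, hw, e, he, by rw [← h3]; group⟩

/-- two elements of `F_4` with the same image modulo `Z_4` -/
theorem splitF2 {f g : G} (hf : f ∈ FF S i W 2) (hg : g ∈ FF S i W 2) {y z z' : Y} (hz : z ∈ S.Zc 2) (hz' : z' ∈ S.Zc 2)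
    (hy : y ∈ S.Q2) (h : tc t f = f * i (y * z)) (h' : tc t g = g * i (y * z')) :
    ∃ w ∈ W 2, ∃ e ∈ S.Q2, g = f * (w * i e) := by
  have hyz : y * z ∈ S.Q2 := mul_mem hy (by obtain ⟨u, rfl⟩ := hz; exact S.q2_3 u)
  have hyz' : y * z' ∈ S.Q2 := mul_mem hy (by obtain ⟨u, rfl⟩ := hz'; exact S.q2_3 u)
  have h1 : tc t (f⁻¹ * g) = (f⁻¹ * g) * i (z⁻¹ * z') := by
    rw [map_mul, map_inv, h, h', cQ2 P D hf hyz, mul_inv_rev, ← map_inv]
    have h2 := cQ2 P D hg (inv_mem hyz)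
    have h3 : f⁻¹ * i (y * z)⁻¹ * (g * i (y * z')) = f⁻¹ * (g * i (y * z)⁻¹) * i (y * z') := by
      rw [h2]; group
    rw [h3]
    have h4 : (y * z)⁻¹ * (y * z') = z⁻¹ * z' := by group
    calc f⁻¹ * (g * i (y * z)⁻¹) * i (y * z') = f⁻¹ * g * (i (y * z)⁻¹ * i (y * z')) := by group
      _ = _ := by rw [← map_mul, h4]
  obtain ⟨w, hw, e, he, h2⟩ := splitF P D (mul_mem (inv_mem hf) hg) (mul_mem (inv_mem hz) hz') h1
  exact ⟨w, hw, e, he, by rw [← h2]; group⟩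

/-- (F7) `[F_4, Q_4] ≤ W_4` -/
theorem brkQ : ∀ f ∈ FF S i W 2, ∀ q ∈ J S.XZ 1 7, f * i q * f⁻¹ * (i q)⁻¹ ∈ W 2 := by
  haveI := P.finF
  have h0 : ∀ w ∈ W 2, ∀ y ∈ S.PL, w * i y = i y * w := fun w hw y hy => centJ P D hw hy
  have hQ : ∀ q ∈ J S.XZ 1 7, q ∈ S.PL := fun q hq => J_mono (by norm_num) (by norm_num) hq
  refine FF_ind (fun w hw q hq => ?_) (fun g hg w hw q hq => ?_) (fun q hq => by simp) (fun a b ha' _ ha hb q hq => ?_)
    (fun a ha' ha q hq => ?_)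
  · rw [brk_of_comm (h0 w hw q (hQ q hq))]; exact one_mem _
  · have hg' := PL_of P D hg
    have h1 : ∀ q ∈ J S.XZ 1 7, w * i q * w⁻¹ * (i q)⁻¹ ∈ W 2 := by
      intro q hq
      obtain ⟨x, hx, r, hr, rfl⟩ := S.zsys8.split_ll (a := 1) (b := 7) (by norm_num) (by norm_num) hq
      have h2 : w * i r = i r * w := centJ' P D (a := 2 + 1) hw (b := 1 + 1) (c := 7) (by norm_num) (by norm_num) hr
      have h3 := D.two 2 w hw x hx
      have e : w * i (x * r) * w⁻¹ * (i (x * r))⁻¹ = w * i x * w⁻¹ * (i x)⁻¹ := by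
        rw [map_mul]
        exact brk_mul_z' h2.symm
      rw [e]; exact h3
    have h2 : g⁻¹ * q * g ∈ J S.XZ 1 7 := by
      have := Q_conj (inv_mem hg') hq
      rwa [inv_inv] at this
    have h3 := h1 _ h2
    have h4 := h0 _ h3 g hg'
    have e : i g * w * (i g)⁻¹ * i q * (i g * w * (i g)⁻¹)⁻¹ * (i q)⁻¹ =
        i g * (w * i (g⁻¹ * q * g) * w⁻¹ * (i (g⁻¹ * q * g))⁻¹) * (i g)⁻¹ := by
      simp only [map_mul, map_inv]; group
    rw [e, ← h4, mul_inv_cancel_right]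
    exact h3
  · have h1 := ha q hq
    have h2 := hb q hq
    have h3 := cW P D a ha' _ h2
    have e : a * b * i q * (a * b)⁻¹ * (i q)⁻¹ = (a * (b * i q * b⁻¹ * (i q)⁻¹)) * a⁻¹ * (a * i q * a⁻¹ * (i q)⁻¹) := by group
    rw [e, h3, mul_inv_cancel_right]
    exact mul_mem h2 h1
  · have h1 := inv_mem (ha q hq)
    have h3 := cW P D a ha' _ h1
    have e : a⁻¹ * i q * a⁻¹⁻¹ * (i q)⁻¹ = a⁻¹ * ((a * i q * a⁻¹ * (i q)⁻¹)⁻¹ * a) := by group
    rw [e, ← h3]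
    have e2 : a⁻¹ * (a * (a * i q * a⁻¹ * (i q)⁻¹)⁻¹) = (a * i q * a⁻¹ * (i q)⁻¹)⁻¹ := by group
    rw [e2]; exact h1

end dbl

end Cfsg.Agent.OddHalf.D7TwF4.Mid.Four
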