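import Cfsg.Agent.OddHalf.D7TwF4.Mid.Odd

/-!
# `²F₄(q)`: relations inside `Y` for the commutator `[W_2, W_8]` (helper427)
-/

set_option autoImplicit false
set_option linter.unusedSectionVars false
set_option linter.style.haveILetI false
set_option linter.unusedVariables false

namespace Cfsg.Agent.OddHalf.D7TwF4.Mid.KRel

open Cfsg.Agent.KFacts.TwF4 Cfsg.Agent.SplitTwo.ZS Cfsg.Agent.OddHalf.D7TwF4.Defs
open Cfsg.Agent.OddHalf.D7TwF4.Mid.Basic Cfsg.Agent.OddHalf.D7TwF4.Growth.Tools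
open Cfsg.Agent.OddHalf.D7TwF4.Mid.Pair Cfsg.Agent.OddHalf.D7TwF4.Mid.Four Cfsg.Agent.OddHalf.D7TwF4.Mid.Odd

universe u v w

variable {F : Type w} [Field F] {σ : F →+* F} {Y : Type u} [Group Y] {S : Full σ Y}

theorem r28z (u v : F) : S.e 1 0 u * S.e 4 0 v = S.e 4 0 v * S.e 1 0 u *
    (S.e 2 0 (σ u * v) * S.o 2 (u * v) * S.e 3 0 (u * σ v)) := by
  have r : S.e 1 0 u * S.e 4 0 v = S.e 4 0 v * S.e 1 0 u * S.o 1 (0 * σ 0 * 0 + u * 0) *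
        S.e 2 (σ 0 * 0) (0 * u * v + 0 * 0 * σ 0 * v + σ u * 0 * σ 0 + σ u * v) * S.o 2 (u * v) *
        S.e 3 (0 * σ 0) (0 * σ 0 * 0 * 0 * σ 0 + 0 * σ 0 * σ v + u * 0 * v + u * 0 * 0 * σ 0 + u * σ v) *
        S.o 3 (0 * 0 * σ 0 + 0 * v) := S.e_e3 1 0 u 0 v
  simp only [map_zero, zero_mul, mul_zero, zero_add, add_zero, S.o_zero, mul_one] at r
  rw [r]
  simp only [mul_assoc]

theorem r27z (u s : F) : S.e 1 0 u * S.o 3 s = S.o 3 s * S.e 1 0 u * S.e 2 0 (u * s) := by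
  have r : S.e 1 0 u * S.o 3 s = S.o 3 s * S.e 1 0 u * S.e 2 0 (0 * σ 0 * s + u * s) * S.o 2 (σ 0 * s) *
      S.e 3 0 (0 * σ s) := S.e_o2 1 0 u s
  simpa only [map_zero, zero_mul, zero_add, S.o_zero, S.e_zero, mul_one] using r

/-- uniqueness in `V5` -/
theorem V5_unique {a b c : F} (h : S.e 2 0 a * S.o 2 b * S.e 3 0 c = 1) : a = 0 ∧ b = 0 ∧ c = 0 := by
  have Z := S.zsys8
  have h1 : S.e 2 0 a = 1 := by
    apply Z.inter 4 _ (S.mX4 0 a)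
    have e : S.e 2 0 a = (S.o 2 b * S.e 3 0 c)⁻¹ := by
      rw [mul_assoc] at h
      exact eq_inv_of_mul_eq_one_left h
    rw [e]
    exact inv_mem (mul_mem (mem_J (S.mX5 b) (by norm_num) (by norm_num)) (mem_J (S.mX6 0 c) (by norm_num) (by norm_num)))
  rw [h1, one_mul] at h
  have h2 : S.o 2 b = 1 := by
    apply Z.inter 5 _ (S.mX5 b)
    have e : S.o 2 b = (S.e 3 0 c)⁻¹ := eq_inv_of_mul_eq_one_left h
    rw [e]
    exact inv_mem (mem_J (S.mX6 0 c) (by norm_num) (by norm_num))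
  rw [h2, one_mul] at h
  exact ⟨(S.e_eq_one h1).2, S.o_eq_one h2, (S.e_eq_one h).2⟩

theorem V5_comm {x y : Y} (hx : x ∈ S.V5) (hy : y ∈ S.V5) : x * y = y * x :=
  S.Q1_comm (Q2_le_Q1 (V5_Q2 hx)) (V5_Q2 hy)

/-- normal form in `Q2` -/
theorem Q2_form {y : Y} (hy : y ∈ S.Q2) : ∃ a b c s d, y = S.e 1 0 a * S.o 1 b * S.e 2 0 c * S.o 2 s * S.e 3 0 d := by
  have key : ∀ A B : Subgroup Y, A ≤ S.Q2 → B ≤ S.Q2 → ∀ a ∈ A, ∀ b ∈ B, a * b * a⁻¹ ∈ B := by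
    intro A B hA hB a ha b hb
    rw [S.Q1_comm (Q2_le_Q1 (hA ha)) (hB hb), mul_inv_cancel_right]; exact hb
  have m1 : S.Zc 1 ≤ S.Q2 := by rintro _ ⟨u, rfl⟩; exact S.q2_1 u
  have m2 : S.XZ 3 ≤ S.Q2 := fun x hx => by obtain ⟨s, rfl⟩ := S.X3 hx; exact S.q2_2 s
  have m3 : S.Zc 2 ≤ S.Q2 := by rintro _ ⟨u, rfl⟩; exact S.q2_3 u
  have m4 : S.XZ 5 ≤ S.Q2 := fun x hx => by obtain ⟨s, rfl⟩ := S.X5 hx; exact S.q2_4 s
  have m5 : S.Zc 3 ≤ S.Q2 := by rintro _ ⟨u, rfl⟩; exact S.q2_5 u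
  have hy' : y ∈ S.Zc 1 ⊔ S.XZ 3 ⊔ S.Zc 2 ⊔ S.XZ 5 ⊔ S.Zc 3 := hy
  obtain ⟨y4, hy4, _, ⟨d, rfl⟩, rfl⟩ := mem_sup_of_norm (key _ _ (sup_le (sup_le (sup_le m1 m2) m3) m4) m5) hy'
  obtain ⟨y3, hy3, x5, hx5, rfl⟩ := mem_sup_of_norm (key _ _ (sup_le (sup_le m1 m2) m3) m4) hy4
  obtain ⟨y2, hy2, _, ⟨c, rfl⟩, rfl⟩ := mem_sup_of_norm (key _ _ (sup_le m1 m2) m3) hy3
  obtain ⟨_, ⟨a, rfl⟩, x3, hx3, rfl⟩ := mem_sup_of_norm (key _ _ m1 m2) hy2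
  obtain ⟨b, rfl⟩ := S.X3 hx3
  obtain ⟨s, rfl⟩ := S.X5 hx5
  exact ⟨a, b, c, s, d, rfl⟩

theorem Q2_form' {y : Y} (hy : y ∈ S.Q2.map (S.ck (3 - 2)).toMonoidHom) :
    ∃ m ∈ S.V5, ∃ s d, y = m * (S.o 3 s * S.e 4 0 d) := by
  obtain ⟨x, hx, rfl⟩ := hy
  obtain ⟨a, b, c, s, d, rfl⟩ := Q2_form hx
  refine ⟨S.e 2 0 a * S.o 2 b * S.e 3 0 c, S.mem_V5.2 ⟨a, b, c, rfl⟩, s, d, ?_⟩
  show S.ck (3 - 2) (S.e 1 0 a * S.o 1 b * S.e 2 0 c * S.o 2 s * S.e 3 0 d) = _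
  rw [map_mul, map_mul, map_mul, map_mul, S.ck_e, S.ck_o, S.ck_e, S.ck_o, S.ck_e]
  have e1 : (1 : ZMod 8) + ((3 - 2 : ℤ) : ZMod 8) = 2 := by norm_num
  have e2 : (2 : ZMod 8) + ((3 - 2 : ℤ) : ZMod 8) = 3 := by norm_num
  have e3 : (3 : ZMod 8) + ((3 - 2 : ℤ) : ZMod 8) = 4 := by norm_num
  rw [e1, e2, e3]
  simp only [mul_assoc]

/-- `Q2 ∩ Q2' = V5` -/
theorem Q2_inf {y : Y} (hy : y ∈ S.Q2) (hy' : y ∈ S.Q2.map (S.ck (3 - 2)).toMonoidHom) : y ∈ S.V5 := by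
  have Z := S.zsys8
  obtain ⟨a, b, c, s, d, h⟩ := Q2_form hy
  obtain ⟨m, hm, s', d', h'⟩ := Q2_form' hy'
  have hm' : m ∈ J S.XZ 4 8 := J_mono (by norm_num) (by norm_num) (show m ∈ J S.XZ 4 6 from by
    obtain ⟨a, b, c, rfl⟩ := S.mem_V5.1 hm
    exact mul_mem (mul_mem (mem_J (S.mX4 0 a) (by norm_num) (by norm_num)) (mem_J (S.mX5 b) (by norm_num) (by norm_num)))
      (mem_J (S.mX6 0 c) (by norm_num) (by norm_num)))
  have hyJ : y ∈ J S.XZ 4 8 := by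
    rw [h']
    exact mul_mem hm' (mul_mem (mem_J (S.mX7 s') (by norm_num) (by norm_num)) (mem_J (S.mX8 0 d') (by norm_num) (by norm_num)))
  have hv : S.e 2 0 c * S.o 2 s * S.e 3 0 d ∈ S.V5 := S.mem_V5.2 ⟨c, s, d, rfl⟩
  have hvJ : S.e 2 0 c * S.o 2 s * S.e 3 0 d ∈ J S.XZ 4 8 :=
    mul_mem (mul_mem (mem_J (S.mX4 0 c) (by norm_num) (by norm_num)) (mem_J (S.mX5 s) (by norm_num) (by norm_num)))
      (mem_J (S.mX6 0 d) (by norm_num) (by norm_num))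
  have e : S.e 1 0 a * S.o 1 b = y * (S.e 2 0 c * S.o 2 s * S.e 3 0 d)⁻¹ := by rw [h]; group
  have h1 : S.e 1 0 a * S.o 1 b ∈ J S.XZ 4 8 := by rw [e]; exact mul_mem hyJ (inv_mem hvJ)
  have h2 : S.e 1 0 a = 1 := by
    apply Z.inter 2 _ (S.mX2 0 a)
    have e2 : S.e 1 0 a = (S.e 1 0 a * S.o 1 b) * (S.o 1 b)⁻¹ := by group
    rw [e2]
    exact mul_mem (J_mono (by norm_num) (by norm_num) h1) (inv_mem (mem_J (S.mX3 b) (by norm_num) (by norm_num)))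
  rw [h2, one_mul] at h1
  have h3 : S.o 1 b = 1 := Z.inter 3 _ (S.mX3 b) (J_mono (by norm_num) (by norm_num) h1)
  rw [h2, h3, one_mul, one_mul] at h
  rw [h]
  exact hv

/-- if `e 1 0 u`, `u ≠ 0`, commutes with `x_7 z_8`, then `x_7 z_8 = 1` -/
theorem c78 {u s d : F} (hu : u ≠ 0) (h : S.e 1 0 u * (S.o 3 s * S.e 4 0 d) = (S.o 3 s * S.e 4 0 d) * S.e 1 0 u) :
    s = 0 ∧ d = 0 := by
  have c1 : S.e 2 0 (u * s) * S.e 4 0 d = S.e 4 0 d * S.e 2 0 (u * s) := S.e_e2 2 0 (u * s) 0 d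
  have e : S.e 1 0 u * (S.o 3 s * S.e 4 0 d) = (S.o 3 s * S.e 4 0 d) * S.e 1 0 u *
      ((S.e 2 0 (σ u * d) * S.o 2 (u * d) * S.e 3 0 (u * σ d)) * S.e 2 0 (u * s)) := by
    calc S.e 1 0 u * (S.o 3 s * S.e 4 0 d) = (S.e 1 0 u * S.o 3 s) * S.e 4 0 d := by rw [mul_assoc]
      _ = S.o 3 s * S.e 1 0 u * (S.e 2 0 (u * s) * S.e 4 0 d) := by rw [r27z]; simp only [mul_assoc]
      _ = S.o 3 s * (S.e 1 0 u * S.e 4 0 d) * S.e 2 0 (u * s) := by rw [c1]; simp only [mul_assoc]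
      _ = _ := by rw [r28z]; simp only [mul_assoc]
  rw [e] at h
  have h1 := mul_eq_left.1 h
  have h2 : S.e 2 0 (σ u * d + u * s) * S.o 2 (u * d) * S.e 3 0 (u * σ d) = 1 := by
    have e2 : S.e 2 0 (σ u * d + u * s) = S.e 2 0 (u * s) * S.e 2 0 (σ u * d) := by
      rw [S.e_mul]; simp [add_comm]
    have c2 := V5_comm (S := S) (S.mem_V5.2 ⟨σ u * d, u * d, u * σ d, rfl⟩) (Z4_V5 (u * s))
    rw [e2, mul_assoc, mul_assoc, ← mul_assoc (S.e 2 0 (σ u * d)), ← c2]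
    exact h1
  obtain ⟨h3, h4, -⟩ := V5_unique h2
  have hd : d = 0 := (mul_eq_zero.1 h4).resolve_left hu
  rw [hd, mul_zero, zero_add] at h3
  exact ⟨(mul_eq_zero.1 h3).resolve_left hu, hd⟩

/-- `C_{NO}(X_4) ∩ C(X_6)` -/
theorem c46 (hc : ∃ w : Fˣ, w ≠ 1) {y : Y} (hy : y ∈ S.NO) (h4 : ∀ x ∈ S.XZ 4, y * x = x * y)
    (h6 : ∀ x ∈ S.XZ 6, y * x = x * y) : ∃ u, ∃ m ∈ S.V5, ∃ v, y = S.e 1 0 u * (m * S.e 4 0 v) := by
  have Z := S.zsys8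
  obtain ⟨u, v, r, hr, rfl⟩ := S.mem_NO_iff.1 hy
  -- `Z_2`, `Z_8` commute with `X_4`, `X_6`
  have a1 : ∀ x ∈ S.XZ 4, S.e 1 0 u * x = x * S.e 1 0 u := fun x hx => by
    obtain ⟨p, w, rfl⟩ := S.X4 hx
    have := S.e_e1 1 0 u p w
    rw [zero_mul, S.o_zero, mul_one] at this
    exact this
  have a2 : ∀ x ∈ S.XZ 4, S.e 4 0 v * x = x * S.e 4 0 v := fun x hx => by
    obtain ⟨p, w, rfl⟩ := S.X4 hx
    exact (S.e_e2 2 p w 0 v).symm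
  have a3 : ∀ x ∈ S.XZ 6, S.e 1 0 u * x = x * S.e 1 0 u := fun x hx => by
    obtain ⟨p, w, rfl⟩ := S.X6 hx
    exact S.e_e2 1 0 u p w
  have a4 : ∀ x ∈ S.XZ 6, S.e 4 0 v * x = x * S.e 4 0 v := fun x hx => by
    obtain ⟨p, w, rfl⟩ := S.X6 hx
    have := S.e_e1 3 p w 0 v
    rw [mul_zero, S.o_zero, mul_one] at this
    exact this.symm
  have b4 : ∀ x ∈ S.XZ 4, r * x = x * r := fun x hx => comm_of_mul (comm_of_mul' (h4 x hx) (a2 x hx)) (a1 x hx)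
  have b6 : ∀ x ∈ S.XZ 6, r * x = x * r := fun x hx => comm_of_mul (comm_of_mul' (h6 x hx) (a4 x hx)) (a3 x hx)
  -- the components of `r`
  obtain ⟨x3, hx3, r3, hr3, rfl⟩ := Z.split_ll (a := 3) (b := 7) (by norm_num) (by norm_num) hr
  obtain ⟨x4, hx4, r4, hr4, rfl⟩ := Z.split_ll (a := 3 + 1) (b := 7) (by norm_num) (by norm_num) hr3
  obtain ⟨x5, hx5, r5, hr5, rfl⟩ := Z.split_ll (a := 3 + 1 + 1) (b := 7) (by norm_num) (by norm_num) hr4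
  obtain ⟨x6, hx6, r6, hr6, rfl⟩ := Z.split_ll (a := 3 + 1 + 1 + 1) (b := 7) (by norm_num) (by norm_num) hr5
  have hr7 : r6 ∈ S.XZ 7 := mem_of_J_self (X := S.XZ) (a := 7) (b := 7) hr6 le_rfl
  obtain ⟨a, rfl⟩ := S.X3 hx3
  obtain ⟨p, b, rfl⟩ := S.X4 hx4
  obtain ⟨c, rfl⟩ := S.X5 hx5
  obtain ⟨q, d, rfl⟩ := S.X6 hx6
  obtain ⟨f, rfl⟩ := S.X7 hr7
  -- conjugation by `x_4(p', 0)`
  have key : ∀ p', p * σ p' + p' * σ p = 0 ∧ p' * q = 0 ∧ p' * f = 0 := by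
    intro p'
    have h := b4 _ (S.mX4 p' 0)
    obtain ⟨g, hg⟩ : ∃ g, g = S.e 2 p' 0 := ⟨_, rfl⟩
    have k3 : S.o 1 a * g = g * S.o 1 a := by rw [hg]; exact S.o_e1 1 a p' 0
    have k4 : S.e 2 p b * g = g * S.e 2 p b * S.e 2 0 (p * σ p' + p' * σ p) := by
      rw [hg, S.e_mul, S.e_mul, S.e_mul]
      congr 1
      · rw [add_zero, add_comm]
      · simp only [map_zero, mul_zero, add_zero, zero_add]
        have : b + p' * σ p + (p * σ p' + p' * σ p) = b + p * σ p' + (p' * σ p + p' * σ p) := by ring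
        rw [this, S.add_self, add_zero]
    have k5 : S.o 2 c * g = g * S.o 2 c := by rw [hg]; exact (S.e_o0 2 p' 0 c).symm
    have k6 : S.e 3 q d * g = g * S.e 3 q d * S.o 2 (p' * q) := by
      have h1 : g * S.e 3 q d = S.e 3 q d * g * S.o 2 (p' * q) := by rw [hg]; exact S.e_e1 2 p' 0 q d
      have h2 : S.o 2 (p' * q) * S.o 2 (p' * q) = 1 := by rw [S.o_add, S.add_self, S.o_zero]
      calc S.e 3 q d * g = S.e 3 q d * g * (S.o 2 (p' * q) * S.o 2 (p' * q)) := by rw [h2, mul_one]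
        _ = (S.e 3 q d * g * S.o 2 (p' * q)) * S.o 2 (p' * q) := by simp only [mul_assoc]
        _ = _ := by rw [← h1]
    have k7 : S.o 3 f * g = g * S.o 3 f * S.e 3 0 (p' * f) := by
      have h1 : g * S.o 3 f = S.o 3 f * g * S.e 3 0 (p' * f) := by rw [hg]; exact S.e_o1 2 p' 0 f
      have h2 : S.e 3 0 (p' * f) * S.e 3 0 (p' * f) = 1 := zc_sq ⟨_, rfl⟩
      calc S.o 3 f * g = S.o 3 f * g * (S.e 3 0 (p' * f) * S.e 3 0 (p' * f)) := by rw [h2, mul_one]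
        _ = (S.o 3 f * g * S.e 3 0 (p' * f)) * S.e 3 0 (p' * f) := by simp only [mul_assoc]
        _ = _ := by rw [← h1]
    obtain ⟨δ, hδ⟩ : ∃ δ, δ = S.e 2 0 (p * σ p' + p' * σ p) := ⟨_, rfl⟩
    obtain ⟨ε, hε⟩ : ∃ ε, ε = S.o 2 (p' * q) := ⟨_, rfl⟩
    obtain ⟨φ, hφ⟩ : ∃ φ, φ = S.e 3 0 (p' * f) := ⟨_, rfl⟩
    rw [← hδ] at k4
    rw [← hε] at k6
    rw [← hφ] at k7
    have m5 : δ * S.o 2 c = S.o 2 c * δ := by rw [hδ]; exact S.e_o0 2 0 _ c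
    have m6 : δ * S.e 3 q d = S.e 3 q d * δ := by
      have := S.e_e1 2 0 (p * σ p' + p' * σ p) q d
      rw [zero_mul, S.o_zero, mul_one] at this
      rw [hδ]; exact this
    have m7 : δ * S.o 3 f = S.o 3 f * δ := by
      have := S.e_o1 2 0 (p * σ p' + p' * σ p) f
      rw [zero_mul, S.e_zero, mul_one] at this
      rw [hδ]; exact this
    have n7 : ε * S.o 3 f = S.o 3 f * ε := by rw [hε]; exact S.o_o1 2 _ f
    have tot : S.o 1 a * (S.e 2 p b * (S.o 2 c * (S.e 3 q d * S.o 3 f))) * g =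
        g * (S.o 1 a * (S.e 2 p b * (S.o 2 c * (S.e 3 q d * S.o 3 f)))) * (δ * ε * φ) := by
      calc S.o 1 a * (S.e 2 p b * (S.o 2 c * (S.e 3 q d * S.o 3 f))) * g =
          S.o 1 a * S.e 2 p b * S.o 2 c * S.e 3 q d * (S.o 3 f * g) := by simp only [mul_assoc]
        _ = S.o 1 a * S.e 2 p b * S.o 2 c * (S.e 3 q d * g) * S.o 3 f * φ := by rw [k7]; simp only [mul_assoc]
        _ = S.o 1 a * S.e 2 p b * (S.o 2 c * g) * S.e 3 q d * (ε * S.o 3 f) * φ := by rw [k6]; simp only [mul_assoc]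
        _ = S.o 1 a * (S.e 2 p b * g) * S.o 2 c * S.e 3 q d * S.o 3 f * ε * φ := by rw [k5, n7]; simp only [mul_assoc]
        _ = (S.o 1 a * g) * S.e 2 p b * (δ * S.o 2 c) * S.e 3 q d * S.o 3 f * ε * φ := by rw [k4]; simp only [mul_assoc]
        _ = (g * S.o 1 a) * S.e 2 p b * S.o 2 c * (δ * S.e 3 q d) * S.o 3 f * ε * φ := by rw [k3, m5]; simp only [mul_assoc]
        _ = g * S.o 1 a * S.e 2 p b * S.o 2 c * S.e 3 q d * (δ * S.o 3 f) * ε * φ := by rw [m6]; simp only [mul_assoc]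
        _ = _ := by rw [m7]; simp only [mul_assoc]
    rw [← hg] at h
    rw [tot] at h
    have h2 := mul_eq_left.1 h
    rw [hδ, hε, hφ] at h2
    obtain ⟨e1, e2, e3⟩ := V5_unique h2
    exact ⟨e1, e2, e3⟩
  have hq : q = 0 := by have := (key 1).2.1; rwa [one_mul] at this
  have hf : f = 0 := by have := (key 1).2.2; rwa [one_mul] at this
  have hp : p = 0 := by
    refine X4_center (S := S) (u := 0) hc (fun p' => ?_)
    rw [S.e_mul, S.e_mul]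
    congr 1
    · rw [add_comm]
    · have := (key p').1
      have h1 : p * σ p' = -(p' * σ p) := eq_neg_of_add_eq_zero_left this
      have h2 := S.neg_one_eq
      have h3 : p * σ p' = p' * σ p := by rw [h1, ← neg_one_mul, h2, one_mul]
      simp only [zero_add, add_zero, h3]
  rw [hq, hf, hp] at b6 ⊢
  -- `a = 0`
  have ha : a = 0 := by
    have h := b6 _ (S.mX6 1 0)
    have hm : S.e 2 0 b * (S.o 2 c * (S.e 3 0 d * S.o 3 0)) = S.e 2 0 b * S.o 2 c * S.e 3 0 d := by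
      rw [S.o_zero, mul_one]; simp only [mul_assoc]
    rw [hm] at h
    have hx : S.e 2 0 b * S.o 2 c * S.e 3 0 d * S.e 3 1 0 = S.e 3 1 0 * (S.e 2 0 b * S.o 2 c * S.e 3 0 d) := by
      have k1 : S.e 3 0 d * S.e 3 1 0 = S.e 3 1 0 * S.e 3 0 d := by
        rw [S.e_mul, S.e_mul]; simp
      have k2 : S.o 2 c * S.e 3 1 0 = S.e 3 1 0 * S.o 2 c := S.o_e1 2 c 1 0
      have k3 : S.e 2 0 b * S.e 3 1 0 = S.e 3 1 0 * S.e 2 0 b := by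
        have := S.e_e1 2 0 b 1 0
        rw [zero_mul, S.o_zero, mul_one] at this
        exact this
      exact comm_mul (comm_mul k3 k2) k1
    have h1 := comm_of_mul' h hx
    have h2 : S.o 1 a * S.e 3 1 0 = S.e 3 1 0 * S.o 1 a * S.e 2 0 (a * 1) := S.o_e2 1 a 1 0
    rw [h1] at h2
    have h3 := left_eq_mul.1 h2
    have := (S.e_eq_one h3).2
    rwa [mul_one] at this
  refine ⟨u, S.e 2 0 b * S.o 2 c * S.e 3 0 d, S.mem_V5.2 ⟨b, c, d, rfl⟩, v, ?_⟩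
  rw [ha, S.o_zero, S.o_zero, one_mul, mul_one]
  simp only [mul_assoc]

end Cfsg.Agent.OddHalf.D7TwF4.Mid.KRel
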