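import Cfsg.Agent.OddHalf.D7TwF4.Mid.Ab

/-!
# `²F₄(q)`: moving the groups `F_{2a}`; the map `[·, t] : F_4 → Q2` is onto (helper427)
-/

set_option autoImplicit false
set_option linter.unusedSectionVars false
set_option linter.style.haveILetI false
set_option linter.unusedVariables false

namespace Cfsg.Agent.OddHalf.D7TwF4.Mid.Move

open Cfsg.Agent.KFacts.TwF4 Cfsg.Agent.SplitTwo.ZS Cfsg.Agent.OddHalf.D7TwF4.Defs
open Cfsg.Agent.SplitTwo Cfsg.Agent.TitsThree.RankTwoZ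
open Cfsg.Agent.OddHalf.D7TwF4.Mid.Basic Cfsg.Agent.OddHalf.D7TwF4.Growth.Tools
open Cfsg.Agent.OddHalf.D7TwF4.Mid.Pair Cfsg.Agent.OddHalf.D7TwF4.Mid.Four Cfsg.Agent.OddHalf.D7TwF4.Mid.Ab

universe u v w

variable {F : Type w} [Field F] {σ : F →+* F} {Y : Type u} [Group Y] {G : Type v} [Group G]
variable {S : Full σ Y} {i : Y →* G} {t : G} {W : ℤ → Subgroup G}

/-! ### averaging -/

theorem exists_avg {A : Subgroup G} (hA : ∀ a ∈ A, ∀ b ∈ A, a * b = b * a) (hA2 : ∀ a ∈ A, a * a = 1)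
    {H : Subgroup Y} [Finite H] (hodd : Odd (Nat.card H)) (hn : ∀ h ∈ H, ∀ a ∈ A, i h * a * (i h)⁻¹ ∈ A)
    {τ : G →* G} (hτA : ∀ a ∈ A, τ a ∈ A) (hτH : ∀ h ∈ H, τ (i h) = i h) {f : G} (hf : f ∈ A) {x : G} (hx : x ∈ A)
    (hτ : τ f = f * x) (hxH : ∀ h ∈ H, i h * x = x * i h) :
    ∃ f' ∈ A, τ f' = f' * x ∧ ∀ h ∈ H, f' * i h = i h * f' := by
  classical
  letI : CommGroup A := { (inferInstance : Group A) with mul_comm := fun a b => Subtype.ext (hA a a.2 b b.2) }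
  haveI : Fintype H := Fintype.ofFinite H
  let ψ : H → A := fun h => ⟨i h * f * (i h)⁻¹, hn h h.2 f hf⟩
  let cj : H → A →* A := fun h0 =>
    { toFun := fun a => ⟨i h0 * a * (i h0)⁻¹, hn h0 h0.2 a a.2⟩
      map_one' := Subtype.ext (by simp)
      map_mul' := fun a b => Subtype.ext (by
        show i h0 * (a * b) * (i h0)⁻¹ = (i h0 * a * (i h0)⁻¹) * (i h0 * b * (i h0)⁻¹)
        group) }
  let τA : A →* A :=
    { toFun := fun a => ⟨τ a, hτA a a.2⟩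
      map_one' := Subtype.ext (by simp)
      map_mul' := fun a b => Subtype.ext (map_mul τ _ _) }
  refine ⟨((∏ h, ψ h : A) : G), (∏ h, ψ h : A).2, ?_, ?_⟩
  · have h1 : τA (∏ h, ψ h) = ∏ h, (ψ h * ⟨x, hx⟩) := by
      rw [map_prod]
      refine Finset.prod_congr rfl fun h _ => Subtype.ext ?_
      show τ (i h * f * (i h)⁻¹) = i h * f * (i h)⁻¹ * x
      have hxh := hxH h h.2
      have hx' : x * (i h)⁻¹ = (i h)⁻¹ * x := by
        have := comm_inv hxh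
        exact this.symm
      rw [map_mul, map_mul, map_inv, hτH h h.2, hτ]
      calc i h * (f * x) * (i h)⁻¹ = i h * f * (x * (i h)⁻¹) := by group
        _ = _ := by rw [hx']; group
    rw [Finset.prod_mul_distrib, Finset.prod_const, Finset.card_univ] at h1
    have h2 : (⟨x, hx⟩ : A) ^ Fintype.card H = ⟨x, hx⟩ := by
      rw [Nat.card_eq_fintype_card] at hodd
      obtain ⟨k, hk⟩ := hodd
      rw [hk, pow_succ, pow_mul]
      have : (⟨x, hx⟩ : A) ^ 2 = 1 := Subtype.ext (by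
        show ((⟨x, hx⟩ : A) ^ 2 : A).1 = 1
        rw [pow_two]; exact hA2 x hx)
      rw [this, one_pow, one_mul]
    rw [h2] at h1
    exact congrArg Subtype.val h1
  · intro h0 hh0
    have h1 : cj ⟨h0, hh0⟩ (∏ h, ψ h) = ∏ h, ψ h := by
      rw [map_prod]
      refine Fintype.prod_equiv (Equiv.mulLeft (⟨h0, hh0⟩ : H)) _ _ fun h => Subtype.ext ?_
      show i h0 * (i h * f * (i h)⁻¹) * (i h0)⁻¹ = i (h0 * h) * f * (i (h0 * h))⁻¹
      rw [map_mul]; group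
    have h2 : i h0 * ((∏ h, ψ h : A) : G) * (i h0)⁻¹ = ((∏ h, ψ h : A) : G) := congrArg Subtype.val h1
    rw [mul_inv_eq_iff_eq_mul] at h2
    exact h2.symm

/-! ### the torus -/

theorem n2_T {h : Y} (hh : h ∈ S.T) : S.n2 * h * S.n2⁻¹ ∈ S.T := by
  have hi : S.n2⁻¹ = S.n2 := inv_eq_of_mul_eq_one_left S.n2_sq
  show Maps S.R.X (S.n2 * h * S.n2⁻¹) id
  rw [hi]
  have h1 := (S.n2_maps.mul hh).mul S.n2_maps
  exact h1.congr fun k => by
    show 8 - (8 - k) = k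
    exact sub_sub_cancel 8 k

theorem n2_Tk {k : ℤ} {h : Y} (hh : h ∈ S.Tk k) : S.n2 * h * S.n2⁻¹ ∈ S.Tk (8 - k) := by
  refine ⟨n2_T hh.1, Subgroup.mem_centralizer_iff.2 fun x hx => ?_⟩
  have h1 : S.n2⁻¹ * x * S.n2 ∈ S.XZ k := S.n2_refl.mem_inv hx (by ring)
  have h2 := S.Tk_comm hh h1
  calc x * (S.n2 * h * S.n2⁻¹) = S.n2 * ((S.n2⁻¹ * x * S.n2) * h) * S.n2⁻¹ := by group
    _ = _ := by rw [← h2]; group

theorem T_Tk {h s : Y} (hh : h ∈ S.T) {k : ℤ} (hs : s ∈ S.Tk k) : h * s * h⁻¹ = s := by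
  rw [S.T_comm hh hs.1]; group

theorem odd_Tk [Finite Y] (k : ℤ) : Odd (Nat.card (S.Tk k)) := by
  by_contra h
  rw [Nat.not_odd_iff_even, even_iff_two_dvd] at h
  haveI : Fact (Nat.Prime 2) := ⟨Nat.prime_two⟩
  obtain ⟨g, hg⟩ := exists_prime_orderOf_dvd_card' 2 h
  obtain ⟨c, d, hcd⟩ := S.mem_T.1 (S.Tk_le k g.2)
  have h1 : (g : Y) ^ 2 = 1 := by
    have := pow_orderOf_eq_one g
    rw [hg] at this
    exact congrArg Subtype.val this
  rw [← hcd, show (2 : ℕ) = 2 ^ 1 by norm_num] at h1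
  obtain ⟨rfl, rfl⟩ := SylU.torus_two S h1
  rw [S.h_one] at hcd
  have h2 : g = 1 := Subtype.ext hcd.symm
  rw [h2, orderOf_one] at hg
  omega

section dbl

variable (P : Pos S i t) (D : WData S i t W)
include P D

/-! ### moving `F_{2a}` -/

theorem FF_map {a b : ℤ} {g l : Y} (h1 : ∀ z, z ∈ S.Zc (a : ZMod 8) ↔ g * z * g⁻¹ ∈ S.Zc (b : ZMod 8))
    (hl : ∀ z ∈ S.Zc (b : ZMod 8), l * z = z * l)
    (h2 : ∀ z, z ∈ S.Zc ((a + 1 : ℤ) : ZMod 8) ↔ (l * g) * z * (l * g)⁻¹ ∈ S.Zc ((b + 1 : ℤ) : ZMod 8)) :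
    ∀ f ∈ FF S i W a, i g * f * (i g)⁻¹ ∈ FF S i W b := by
  refine FF_ind (fun w hw => W_FF b (conjW P D h1 hw)) (fun y hy w hw => ?_) ?_ (fun x y _ _ hx hy => ?_) (fun x _ hx => ?_)
  · have h3 := conjW P D h2 hw
    have hz : ∀ z ∈ S.Zc (b : ZMod 8), (g * y * g⁻¹ * l⁻¹) * z = z * (g * y * g⁻¹ * l⁻¹) := by
      intro z hz
      have e1 : l⁻¹ * z = z * l⁻¹ := comm_inv (hl z hz)
      have h4 : g⁻¹ * z * g ∈ S.Zc (a : ZMod 8) := by
        rw [h1]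
        have e : g * (g⁻¹ * z * g) * g⁻¹ = z := by group
        rwa [e]
      have h5 := hy _ h4
      calc (g * y * g⁻¹ * l⁻¹) * z = g * y * g⁻¹ * (l⁻¹ * z) := by group
        _ = g * (y * (g⁻¹ * z * g)) * g⁻¹ * l⁻¹ := by rw [e1]; group
        _ = _ := by rw [h5]; group
    have h4 := W_FF' (S := S) (i := i) (W := W) hz h3
    have e : i (g * y * g⁻¹ * l⁻¹) * (i (l * g) * w * (i (l * g))⁻¹) * (i (g * y * g⁻¹ * l⁻¹))⁻¹ =
        i g * (i y * w * (i y)⁻¹) * (i g)⁻¹ := by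
      simp only [map_mul, map_inv]; group
    rwa [e] at h4
  · rw [mul_one, mul_inv_cancel]; exact one_mem _
  · have e : i g * (x * y) * (i g)⁻¹ = (i g * x * (i g)⁻¹) * (i g * y * (i g)⁻¹) := by group
    rw [e]; exact mul_mem hx hy
  · have e : i g * x⁻¹ * (i g)⁻¹ = (i g * x * (i g)⁻¹)⁻¹ := by group
    rw [e]; exact inv_mem hx

theorem FF_rot (m : ℤ) {a : ℤ} {f : G} (hf : f ∈ FF S i W a) : i (S.rot ^ m) * f * (i (S.rot ^ m))⁻¹ ∈ FF S i W (a + m) := by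
  refine FF_map P D (l := 1) (fun z => ?_) (fun z _ => by rw [one_mul, mul_one]) (fun z => ?_) f hf
  · have := rot_Zc (S := S) m (a : ZMod 8) z
    push_cast; exact this
  · have := rot_Zc (S := S) m ((a + 1 : ℤ) : ZMod 8) z
    rw [one_mul]
    push_cast at this ⊢
    rw [this]
    have e : (a : ZMod 8) + 1 + m = (a : ZMod 8) + m + 1 := by ring
    rw [e]

theorem FF_T {h : Y} (hh : h ∈ S.T) {a : ℤ} {f : G} (hf : f ∈ FF S i W a) : i h * f * (i h)⁻¹ ∈ FF S i W a := by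
  refine FF_map P D (l := 1) (fun z => T_Zc hh _ z) (fun z _ => by rw [one_mul, mul_one]) (fun z => ?_) f hf
  rw [one_mul]
  exact T_Zc hh _ z

theorem FF_n2 {a : ℤ} {f : G} (hf : f ∈ FF S i W a) : i S.n2 * f * (i S.n2)⁻¹ ∈ FF S i W (4 - a) := by
  refine FF_map P D (l := S.rot ^ (2 - a) * S.n2 * (S.rot ^ (2 - a))⁻¹) (fun z => ?_) (fun z hz => ?_) (fun z => ?_) f hf
  · have := n2_Zc (S := S) (a : ZMod 8) z
    push_cast; exact this
  · obtain ⟨u, rfl⟩ := hz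
    have e1 := S.rotk_e (2 - a) 2 0 u
    have e2 : (2 : ZMod 8) + ((2 - a : ℤ) : ZMod 8) = ((4 - a : ℤ) : ZMod 8) := by push_cast; ring
    rw [e2] at e1
    have e3 : S.n2 * S.e 2 0 u = S.e 2 0 u * S.n2 := by
      have := S.n2_e 2 0 u
      rw [mul_inv_eq_iff_eq_mul] at this
      exact this
    rw [← e1]
    calc S.rot ^ (2 - a) * S.n2 * (S.rot ^ (2 - a))⁻¹ * (S.rot ^ (2 - a) * S.e 2 0 u * (S.rot ^ (2 - a))⁻¹) =
        S.rot ^ (2 - a) * (S.n2 * S.e 2 0 u) * (S.rot ^ (2 - a))⁻¹ := by group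
      _ = _ := by rw [e3]; group
  · -- `Z_{2a+2} → Z_{6-2a} → Z_2 → Z_6 → Z_{10-2a}`
    have h1 := n2_Zc (S := S) ((a + 1 : ℤ) : ZMod 8) z
    have h2 := rot_Zc (S := S) (a - 2) ((3 - a : ℤ) : ZMod 8) (S.n2 * z * S.n2⁻¹)
    have h3 := n2_Zc (S := S) (1 : ZMod 8) (S.rot ^ (a - 2) * (S.n2 * z * S.n2⁻¹) * (S.rot ^ (a - 2))⁻¹)
    have h4 := rot_Zc (S := S) (2 - a) (3 : ZMod 8)
      (S.n2 * (S.rot ^ (a - 2) * (S.n2 * z * S.n2⁻¹) * (S.rot ^ (a - 2))⁻¹) * S.n2⁻¹)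
    have c1 : (4 : ZMod 8) - ((a + 1 : ℤ) : ZMod 8) = ((3 - a : ℤ) : ZMod 8) := by push_cast; ring
    have c2 : ((3 - a : ℤ) : ZMod 8) + ((a - 2 : ℤ) : ZMod 8) = 1 := by push_cast; ring
    have c3 : (4 : ZMod 8) - 1 = 3 := by ring
    have c4 : (3 : ZMod 8) + ((2 - a : ℤ) : ZMod 8) = ((4 - a + 1 : ℤ) : ZMod 8) := by push_cast; ring
    rw [c1] at h1
    rw [c2] at h2
    rw [c3] at h3
    rw [c4] at h4
    rw [h1, h2, h3, h4]
    have e1 : (S.rot ^ (a - 2)) = (S.rot ^ (2 - a))⁻¹ := by rw [← zpow_neg]; congr 1; ring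
    have e : S.rot ^ (2 - a) * (S.n2 * (S.rot ^ (a - 2) * (S.n2 * z * S.n2⁻¹) * (S.rot ^ (a - 2))⁻¹) * S.n2⁻¹) *
        (S.rot ^ (2 - a))⁻¹ = S.rot ^ (2 - a) * S.n2 * (S.rot ^ (2 - a))⁻¹ * S.n2 * z *
          (S.rot ^ (2 - a) * S.n2 * (S.rot ^ (2 - a))⁻¹ * S.n2)⁻¹ := by
      rw [e1]; group
    rw [e]

/-! ### `t` on `F_{2a}` -/

theorem FF_t {a : ℤ} : ∀ f ∈ FF S i W a, tc t f ∈ FF S i W a := by
  refine FF_ind (fun w hw => ?_) (fun y hy w hw => ?_) ?_ (fun x y _ _ hx hy => ?_) (fun x _ hx => ?_)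
  · obtain ⟨z, hz, h⟩ := tau P D hw
    rw [h]; exact W_FF a (mul_mem hw (Zc_W P D a hz))
  · obtain ⟨z, hz, h⟩ := tau P D hw
    simp only [map_mul, map_inv, tc_i P, h]
    exact W_FF' hy (mul_mem hw (Zc_W P D (a + 1) hz))
  · rw [map_one]; exact one_mem _
  · rw [map_mul]; exact mul_mem hx hy
  · rw [map_inv]; exact inv_mem hx

/-- the map `[·, t] : F_4 → Q2` is onto -/
theorem surQ : ∀ e ∈ S.Q2, ∃ f ∈ FF S i W 2, tc t f = f * i e := by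
  let K : Subgroup Y :=
    { carrier := {e | e ∈ S.Q2 ∧ ∃ f ∈ FF S i W 2, tc t f = f * i e}
      one_mem' := ⟨one_mem _, 1, one_mem _, by simp⟩
      mul_mem' := by
        rintro a b ⟨ha, f, hf, h⟩ ⟨hb, f', hf', h'⟩
        refine ⟨mul_mem ha hb, f * f', mul_mem hf hf', ?_⟩
        have := cQ2 P D hf' ha
        rw [map_mul, h, h', map_mul]
        calc f * i a * (f' * i b) = f * (i a * f') * i b := by group
          _ = _ := by rw [← this]; group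
      inv_mem' := by
        rintro a ⟨ha, f, hf, h⟩
        refine ⟨inv_mem ha, f⁻¹, inv_mem hf, ?_⟩
        rw [map_inv, h, map_inv, cQ2 P D hf ha, mul_inv_rev] }
  have hz : ∀ u, S.e 2 0 u ∈ K := fun u => by
    obtain ⟨w, hw, h⟩ := sur P D 2 u
    exact ⟨S.q2_3 u, w, W_FF 2 hw, h⟩
  have h5 : ∀ v, S.o 2 v ∈ K := fun v => by
    obtain ⟨w2, hw2, h2⟩ := sur P D 1 1
    obtain ⟨w6, hw6, h6⟩ := sur P D 3 (1 * 0 * v + 1 * 0 * 0 * σ 0 + 1 * σ v)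
    obtain ⟨f', hf', -, hc, c', h'⟩ := exists_f P D (q := 0) (v := v) hw2 hw6 h2 h6
    rw [mul_zero, S.o_zero, one_mul, one_mul] at h'
    have h1 : S.o 2 v * S.e 2 0 c' ∈ K := ⟨mul_mem (S.q2_4 v) (S.q2_3 c'), f', hf', h'⟩
    have := mul_mem h1 (inv_mem (hz c'))
    rwa [mul_inv_cancel_right] at this
  have hn : ∀ e ∈ K, S.n2 * e * S.n2⁻¹ ∈ K := by
    rintro e ⟨he, f, hf, h⟩
    refine ⟨Q2_conj S.n2_mem he, i S.n2 * f * (i S.n2)⁻¹, ?_, ?_⟩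
    · have := FF_n2 P D hf
      norm_num at this
      exact this
    · simp only [map_mul, map_inv, tc_i P, h]; group
  have h3 : ∀ v, S.o 1 v ∈ K := fun v => by
    have := hn _ (h5 v)
    rw [S.n2_o] at this
    exact this
  have hK : S.Q2 ≤ K := by
    refine S.Q2_le (fun u => ?_) h3 hz h5 (fun u => ?_)
    · obtain ⟨w, hw, h⟩ := sur P D 1 u
      exact ⟨S.q2_1 u, w, W1_FF P D hw, h⟩
    · obtain ⟨w, hw, h⟩ := sur P D 3 u
      exact ⟨S.q2_5 u, w, W3_FF P D hw, h⟩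
  intro e he
  exact (hK he).2

/-- `Q2 ≤ F_4` -/
theorem Q2_FF {e : Y} (he : e ∈ S.Q2) : i e ∈ FF S i W 2 := by
  obtain ⟨f, hf, h⟩ := surQ P D e he
  have e1 : i e = f⁻¹ * tc t f := by rw [h]; group
  rw [e1]
  exact mul_mem (inv_mem hf) (FF_t P D f hf)

end dbl

end Cfsg.Agent.OddHalf.D7TwF4.Mid.Move
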