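import Cfsg.Agent.OddHalf.D7TwF4.Mid.Move

/-!
# `²F₄(q)`: the doubles `W_j`, `j` odd (helper427)

`WO m = C_{F_{2m} ∩ F_{2m+2}}(T_{2m+1})` is the double of `X_{2m+1}`.
-/

set_option autoImplicit false
set_option linter.unusedSectionVars false
set_option linter.style.haveILetI false
set_option linter.unusedVariables false

namespace Cfsg.Agent.OddHalf.D7TwF4.Mid.Odd

open Cfsg.Agent.KFacts.TwF4 Cfsg.Agent.SplitTwo.ZS Cfsg.Agent.OddHalf.D7TwF4.Defs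
open Cfsg.Agent.OddHalf.D7TwF4.Mid.Basic Cfsg.Agent.OddHalf.D7TwF4.Growth.Tools
open Cfsg.Agent.OddHalf.D7TwF4.Mid.Pair Cfsg.Agent.OddHalf.D7TwF4.Mid.Four Cfsg.Agent.OddHalf.D7TwF4.Mid.Ab
open Cfsg.Agent.OddHalf.D7TwF4.Mid.Move

universe u v w

variable {F : Type w} [Field F] {σ : F →+* F} {Y : Type u} [Group Y] {G : Type v} [Group G]
variable {S : Full σ Y} {i : Y →* G} {t : G} {W : ℤ → Subgroup G}

/-- the double of `X_{2m+1}` -/
def WO (S : Full σ Y) (i : Y →* G) (W : ℤ → Subgroup G) (m : ℤ) : Subgroup G :=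
  FF S i W m ⊓ FF S i W (m + 1) ⊓ Subgroup.centralizer ((S.Tk (2 * m + 1)).map i : Set G)

theorem mem_WO {m : ℤ} {w : G} : w ∈ WO S i W m ↔ w ∈ FF S i W m ∧ w ∈ FF S i W (m + 1) ∧
    ∀ h ∈ S.Tk (2 * m + 1), w * i h = i h * w := by
  constructor
  · rintro ⟨⟨h1, h2⟩, h3⟩
    exact ⟨h1, h2, fun h hh => (Subgroup.mem_centralizer_iff.1 h3 _ ⟨h, hh, rfl⟩).symm⟩
  · rintro ⟨h1, h2, h3⟩
    refine ⟨⟨h1, h2⟩, Subgroup.mem_centralizer_iff.2 ?_⟩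
    rintro _ ⟨h, hh, rfl⟩
    exact (h3 h hh).symm

theorem exists_h1 (P : Pos S i t) (k : ℤ) : ∃ h ∈ S.Tk k, h ≠ 1 := by
  obtain ⟨h, hh, hf⟩ := exists_h P k
  refine ⟨h, hh, fun h1 => ?_⟩
  obtain ⟨x, hx, hx1⟩ := S.zsys8.exists_ne (k + 1)
  exact hx1 (hf (k + 1) (by norm_num) x hx (by rw [h1]; group))

section dbl

variable (P : Pos S i t) (D : WData S i t W)
include P D

/-! ### the other `F_{2a}` -/

theorem back (m : ℤ) {a : ℤ} {f : G} (hf : f ∈ FF S i W (a + m)) :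
    ∃ f' ∈ FF S i W a, f = i (S.rot ^ m) * f' * (i (S.rot ^ m))⁻¹ := by
  have h := FF_rot P D (-m) hf
  rw [add_neg_cancel_right] at h
  refine ⟨_, h, ?_⟩
  rw [zpow_neg, map_inv]; group

theorem back2 {a : ℤ} {f : G} (hf : f ∈ FF S i W a) :
    ∃ f' ∈ FF S i W 2, f = i (S.rot ^ (a - 2)) * f' * (i (S.rot ^ (a - 2)))⁻¹ := by
  have e : a = 2 + (a - 2) := by ring
  rw [e] at hf
  exact back P D (a - 2) hf

theorem comm_all {a : ℤ} {f g : G} (hf : f ∈ FF S i W a) (hg : g ∈ FF S i W a) : f * g = g * f := by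
  obtain ⟨f', hf', rfl⟩ := back2 P D hf
  obtain ⟨g', hg', rfl⟩ := back2 P D hg
  have h := FF_comm P D f' hf' g' hg'
  obtain ⟨x, hx⟩ : ∃ x, x = i (S.rot ^ (a - 2)) := ⟨_, rfl⟩
  rw [← hx]
  calc x * f' * x⁻¹ * (x * g' * x⁻¹) = x * (f' * g') * x⁻¹ := by group
    _ = _ := by rw [h]; group

theorem sq_all {a : ℤ} {f : G} (hf : f ∈ FF S i W a) : f * f = 1 := by
  obtain ⟨f', hf', rfl⟩ := back2 P D hf
  have h := FF_sq P D f' hf'
  calc i (S.rot ^ (a - 2)) * f' * (i (S.rot ^ (a - 2)))⁻¹ * (i (S.rot ^ (a - 2)) * f' * (i (S.rot ^ (a - 2)))⁻¹) =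
      i (S.rot ^ (a - 2)) * (f' * f') * (i (S.rot ^ (a - 2)))⁻¹ := by group
    _ = 1 := by rw [h]; group

theorem cQ1_all {a : ℤ} {f : G} (hf : f ∈ FF S i W a) {y : Y} (hy : y ∈ S.Q1.map (S.ck (a - 2)).toMonoidHom) :
    f * i y = i y * f := by
  obtain ⟨f', hf', rfl⟩ := back2 P D hf
  obtain ⟨y', hy', rfl⟩ := hy
  have h := cQ1 P D f' hf' y' hy'
  have e : i ((S.ck (a - 2)).toMonoidHom y') = i (S.rot ^ (a - 2)) * i y' * (i (S.rot ^ (a - 2)))⁻¹ := by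
    show i (S.rot ^ (a - 2) * y' * (S.rot ^ (a - 2))⁻¹) = _
    rw [map_mul, map_mul, map_inv]
  rw [e]
  calc i (S.rot ^ (a - 2)) * f' * (i (S.rot ^ (a - 2)))⁻¹ * (i (S.rot ^ (a - 2)) * i y' * (i (S.rot ^ (a - 2)))⁻¹) =
      i (S.rot ^ (a - 2)) * (f' * i y') * (i (S.rot ^ (a - 2)))⁻¹ := by group
    _ = _ := by rw [h]; group

theorem tc_rot (m : ℤ) (f : G) : tc t (i (S.rot ^ m) * f * (i (S.rot ^ m))⁻¹) =
    i (S.rot ^ m) * tc t f * (i (S.rot ^ m))⁻¹ := by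
  simp only [map_mul, map_inv, tc_i P]

theorem fix_all {a : ℤ} {f : G} (hf : f ∈ FF S i W a) (h : tc t f = f) :
    ∃ e ∈ S.Q2.map (S.ck (a - 2)).toMonoidHom, f = i e := by
  obtain ⟨f', hf', rfl⟩ := back2 P D hf
  rw [tc_rot P D] at h
  have h1 : tc t f' = f' := by
    have := congrArg (fun x => (i (S.rot ^ (a - 2)))⁻¹ * x * i (S.rot ^ (a - 2))) h
    simpa [mul_assoc] using this
  obtain ⟨e, he, rfl⟩ := fixF P D hf' h1
  refine ⟨_, ⟨e, he, rfl⟩, ?_⟩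
  show _ = i (S.rot ^ (a - 2) * e * (S.rot ^ (a - 2))⁻¹)
  rw [map_mul, map_mul, map_inv]

theorem surQ_all {a : ℤ} {e : Y} (he : e ∈ S.Q2.map (S.ck (a - 2)).toMonoidHom) :
    ∃ f ∈ FF S i W a, tc t f = f * i e := by
  obtain ⟨e', he', rfl⟩ := he
  obtain ⟨f, hf, h⟩ := surQ P D e' he'
  have h1 := FF_rot P D (a - 2) hf
  rw [show 2 + (a - 2) = a by ring] at h1
  refine ⟨_, h1, ?_⟩
  rw [tc_rot P D, h]
  show _ = _ * i (S.rot ^ (a - 2) * e' * (S.rot ^ (a - 2))⁻¹)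
  rw [map_mul, map_mul, map_inv]; group

theorem Q2_FF_all {a : ℤ} {e : Y} (he : e ∈ S.Q2.map (S.ck (a - 2)).toMonoidHom) : i e ∈ FF S i W a := by
  obtain ⟨f, hf, h⟩ := surQ_all P D he
  have e1 : i e = f⁻¹ * tc t f := by rw [h]; group
  rw [e1]
  exact mul_mem (inv_mem hf) (FF_t P D f hf)

omit P D in
theorem V5_Q2 : S.V5 ≤ S.Q2 := by
  intro y hy
  obtain ⟨u, s, v, rfl⟩ := S.mem_V5.1 hy
  exact mul_mem (mul_mem (S.q2_3 u) (S.q2_4 s)) (S.q2_5 v)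

omit P D in
theorem V5_Q2' : S.V5 ≤ S.Q2.map (S.ck (3 - 2)).toMonoidHom := by
  intro y hy
  obtain ⟨u, s, v, rfl⟩ := S.mem_V5.1 hy
  refine ⟨S.e 1 0 u * S.o 1 s * S.e 2 0 v, mul_mem (mul_mem (S.q2_1 u) (S.q2_2 s)) (S.q2_3 v), ?_⟩
  show S.ck (3 - 2) (S.e 1 0 u * S.o 1 s * S.e 2 0 v) = _
  rw [map_mul, map_mul, S.ck_e, S.ck_o, S.ck_e]
  norm_num

/-! ### `W_5` -/

theorem WO_fix5 {w : G} (hw : w ∈ WO S i W 2) (h : tc t w = w) : ∃ s, w = i (S.o 2 s) := by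
  haveI := P.finF
  obtain ⟨h1, h2, h3⟩ := mem_WO.1 hw
  obtain ⟨e, he, rfl⟩ := fixF P D h1 h
  obtain ⟨x, hx, hx1⟩ := exists_h1 P 5
  have h4 : x * e * x⁻¹ = e := by
    have := h3 x hx
    rw [← map_mul, ← map_mul] at this
    rw [← P.inj this]; group
  obtain ⟨s, rfl⟩ := S.X5 (S.fix_J hx hx1 (a := 2) (b := 6) (by norm_num) (by norm_num) (by norm_num) (S.Q2_le_J he) h4)
  exact ⟨s, rfl⟩

theorem exists_avgF {a : ℤ} {k : ℤ} {x : Y} (hx : x ∈ S.Q2.map (S.ck (a - 2)).toMonoidHom) (hxk : x ∈ S.XZ k) :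
    ∃ f ∈ FF S i W a, tc t f = f * i x ∧ ∀ h ∈ S.Tk k, f * i h = i h * f := by
  haveI := P.finG
  haveI : Finite Y := Finite.of_injective i P.inj
  obtain ⟨f, hf, h⟩ := surQ_all P D hx
  exact exists_avg (fun a ha b hb => comm_all P D ha hb) (fun a ha => sq_all P D ha) (odd_Tk k)
    (fun h hh a ha => FF_T P D (Tk_T hh) ha) (FF_t P D) (fun h _ => tc_i P h) hf (Q2_FF_all P D hx) h (fun h hh => by
      rw [← map_mul, ← map_mul, S.Tk_comm hh hxk])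

omit P D in
theorem X5_Q2 (s : F) : S.o 2 s ∈ S.Q2.map (S.ck (2 - 2)).toMonoidHom := by
  refine ⟨S.o 2 s, S.q2_4 s, ?_⟩
  show S.ck (2 - 2) (S.o 2 s) = _
  rw [S.ck_o]
  norm_num

omit P D in
theorem X5_V5 (s : F) : S.o 2 s ∈ S.V5 := S.mem_V5.2 ⟨0, s, 0, by rw [S.e_zero, S.e_zero, one_mul, mul_one]⟩
omit P D in
theorem Z4_V5 (u : F) : S.e 2 0 u ∈ S.V5 := S.mem_V5.2 ⟨u, 0, 0, by rw [S.e_zero, S.o_zero, mul_one, mul_one]⟩
omit P D in
theorem Z6_V5 (v : F) : S.e 3 0 v ∈ S.V5 := S.mem_V5.2 ⟨0, 0, v, by rw [S.e_zero, S.o_zero, one_mul, one_mul]⟩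

/-- `F_6` centralises `V5` -/
theorem cV5' {f : G} (hf : f ∈ FF S i W 3) {y : Y} (hy : y ∈ S.V5) : f * i y = i y * f :=
  cQ1_all P D hf (Subgroup.map_mono Q2_le_Q1 (V5_Q2' hy))

theorem WO_sur5 (s : F) : ∃ w ∈ WO S i W 2, tc t w = w * i (S.o 2 s) := by
  haveI := P.finF
  obtain ⟨f, hf, hft, hfc⟩ := exists_avgF P D (a := 2) (k := 5) (X5_Q2 s) (S.mX5 s)
  obtain ⟨f', hf', hft', hfc'⟩ := exists_avgF P D (a := 3) (k := 5) (V5_Q2' (X5_V5 s)) (S.mX5 s)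
  have cf := cQ2 P D hf (S.q2_4 s)
  have cf' := cV5' P D hf' (X5_V5 s)
  obtain ⟨c, hc⟩ : ∃ c, c = f⁻¹ * f' := ⟨_, rfl⟩
  have hct : tc t c = c := by
    rw [hc, map_mul, map_inv, hft, hft', cf', cf]; group
  obtain ⟨y, hy, h⟩ := P.lift (A := (S.V5 : Set Y)) (a := 2) (fun z hz => by
    obtain ⟨u, rfl⟩ := hz; exact Z4_V5 u) (tc_comm P hct) (fun y hy => by
    rw [hc]
    exact comm_mul (comm_inv (cQ2 P D hf (V5_Q2 hy))) (cV5' P D hf' hy))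
  rw [S.centralizer_V5] at hy
  -- `y` commutes with `T_5`
  obtain ⟨x, hx, hx1⟩ := exists_h1 P 5
  have hcx : c * i x = i x * c := by
    rw [hc]; exact comm_mul (comm_inv (hfc x hx)) (hfc' x hx)
  have hyx : x * y * x⁻¹ = y := by
    have h1 : i y * i x = i x * i y := by
      rcases h with h | h
      · rw [← h]; exact hcx
      · rw [h] at hcx
        exact comm_of_mul hcx (P.ti x)
    rw [← map_mul, ← map_mul] at h1
    rw [← P.inj h1]; group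
  obtain ⟨s', rfl⟩ := S.X5 (S.fix_J hx hx1 (a := 2) (b := 8) (by norm_num) (by norm_num) (by norm_num) hy.1 hyx)
  rcases h with h | h
  · -- `f' = f y`
    have e : f' = f * i (S.o 2 s') := by rw [← h, hc]; group
    refine ⟨f', mem_WO.2 ⟨?_, hf', fun h hh => hfc' h hh⟩, hft'⟩
    rw [e]
    exact mul_mem hf (Q2_FF P D (S.q2_4 s'))
  · exfalso
    have e : f' = f * (t * i (S.o 2 s')) := by rw [← h, hc]; group
    have h1 := sq_all P D hf'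
    have h2 := FF_sq P D f hf
    have h3 := cQ2 P D hf (S.q2_4 s')
    have h4 : i (S.o 2 s') * i (S.o 2 s') = 1 := by rw [← map_mul, S.o_add, S.add_self, S.o_zero, map_one]
    have h5 : t * f = f * i (S.o 2 s) * t := by
      rw [tc_def, mul_inv_eq_iff_eq_mul] at hft
      exact hft
    have h6 : f' * f' = i (S.o 2 s) := by
      rw [e]
      have c1 := P.ti (S.o 2 s')
      calc f * (t * i (S.o 2 s')) * (f * (t * i (S.o 2 s'))) = f * t * (i (S.o 2 s') * f) * (t * i (S.o 2 s')) := by group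
        _ = f * (t * f) * (i (S.o 2 s') * t) * i (S.o 2 s') := by rw [← h3]; group
        _ = f * (t * f) * t * (i (S.o 2 s') * i (S.o 2 s')) := by rw [← c1]; group
        _ = f * f * i (S.o 2 s) * (t * t) := by rw [h4, h5]; group
        _ = _ := by rw [h2, P.tt, one_mul, mul_one]
    rw [h1] at h6
    have h7 : i (S.o 2 s) = 1 := h6.symm
    rw [h7, mul_one] at hft hft'
    obtain ⟨e1, -, he1⟩ := fixF P D hf hft
    obtain ⟨e2, -, he2⟩ := fix_all P D hf' hft'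
    have h8 : c = i (e1⁻¹ * e2) := by rw [hc, he1, he2, map_mul, map_inv]
    rw [h] at h8
    exact P.t_mul_ne h8

/-! ### moving `W_j` -/

theorem WO_rot (j : ℤ) {m : ℤ} {w : G} (hw : w ∈ WO S i W m) : i (S.rot ^ j) * w * (i (S.rot ^ j))⁻¹ ∈ WO S i W (m + j) := by
  obtain ⟨h1, h2, h3⟩ := mem_WO.1 hw
  refine mem_WO.2 ⟨FF_rot P D j h1, ?_, fun h hh => ?_⟩
  · have := FF_rot P D j h2
    rwa [show m + 1 + j = m + j + 1 by ring] at this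
  · have h4 := S.ck_Tk (-j) hh
    rw [show 2 * (m + j) + 1 + 2 * -j = 2 * m + 1 by ring] at h4
    have h5 := h3 _ h4
    have e : i (S.ck (-j) h) = (i (S.rot ^ j))⁻¹ * i h * i (S.rot ^ j) := by
      rw [S.ck_apply, map_mul, map_mul, map_inv, zpow_neg, map_inv, inv_inv]
    rw [e] at h5
    calc i (S.rot ^ j) * w * (i (S.rot ^ j))⁻¹ * i h = i (S.rot ^ j) * (w * ((i (S.rot ^ j))⁻¹ * i h * i (S.rot ^ j))) * (i (S.rot ^ j))⁻¹ := by group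
      _ = _ := by rw [h5]; group

theorem WO_n2 {m : ℤ} {w : G} (hw : w ∈ WO S i W m) : i S.n2 * w * (i S.n2)⁻¹ ∈ WO S i W (3 - m) := by
  obtain ⟨h1, h2, h3⟩ := mem_WO.1 hw
  refine mem_WO.2 ⟨?_, ?_, fun h hh => ?_⟩
  · have := FF_n2 P D h2
    rwa [show 4 - (m + 1) = 3 - m by ring] at this
  · have := FF_n2 P D h1
    rwa [show 4 - m = 3 - m + 1 by ring] at this
  · have h4 := n2_Tk hh
    rw [show 8 - (2 * (3 - m) + 1) = 2 * m + 1 by ring] at h4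
    have h5 := h3 _ h4
    have hi : S.n2⁻¹ = S.n2 := inv_eq_of_mul_eq_one_left S.n2_sq
    have e : i (S.n2 * h * S.n2⁻¹) = (i S.n2)⁻¹ * i h * i S.n2 := by
      rw [map_mul, map_mul, ← map_inv, hi]
    rw [e] at h5
    calc i S.n2 * w * (i S.n2)⁻¹ * i h = i S.n2 * (w * ((i S.n2)⁻¹ * i h * i S.n2)) * (i S.n2)⁻¹ := by group
      _ = _ := by rw [h5]; group

theorem WO_T {h : Y} (hh : h ∈ S.T) {m : ℤ} {w : G} (hw : w ∈ WO S i W m) : i h * w * (i h)⁻¹ ∈ WO S i W m := by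
  obtain ⟨h1, h2, h3⟩ := mem_WO.1 hw
  refine mem_WO.2 ⟨FF_T P D hh h1, FF_T P D hh h2, fun s hs => ?_⟩
  have h4 := T_Tk hh hs
  have h5 := h3 s hs
  have e : i s = i h * i s * (i h)⁻¹ := by rw [← map_inv, ← map_mul, ← map_mul, h4]
  calc i h * w * (i h)⁻¹ * i s = i h * w * (i h)⁻¹ * (i h * i s * (i h)⁻¹) := by rw [← e]
    _ = i h * (w * i s) * (i h)⁻¹ := by group
    _ = (i h * i s * (i h)⁻¹) * (i h * w * (i h)⁻¹) := by rw [h5]; group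
    _ = _ := by rw [← e]

theorem WO_back {m : ℤ} {w : G} (hw : w ∈ WO S i W m) :
    ∃ w' ∈ WO S i W 2, w = i (S.rot ^ (m - 2)) * w' * (i (S.rot ^ (m - 2)))⁻¹ := by
  have h := WO_rot P D (-(m - 2)) hw
  rw [show m + -(m - 2) = 2 by ring] at h
  refine ⟨_, h, ?_⟩
  rw [zpow_neg, map_inv]; group

/-- `C_{W_j}(t) ≤ X_j` -/
theorem WO_fix {m : ℤ} {w : G} (hw : w ∈ WO S i W m) (h : tc t w = w) : ∃ s, w = i (S.o (m : ZMod 8) s) := by
  obtain ⟨w', hw', rfl⟩ := WO_back P D hw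
  rw [tc_rot P D] at h
  have h1 : tc t w' = w' := by
    have := congrArg (fun x => (i (S.rot ^ (m - 2)))⁻¹ * x * i (S.rot ^ (m - 2))) h
    simpa [mul_assoc] using this
  obtain ⟨s, rfl⟩ := WO_fix5 P D hw' h1
  refine ⟨s, ?_⟩
  have e := S.rotk_o (m - 2) 2 s
  have e2 : (2 : ZMod 8) + ((m - 2 : ℤ) : ZMod 8) = (m : ZMod 8) := by push_cast; ring
  rw [e2] at e
  rw [← e, map_mul, map_mul, map_inv]

theorem WO_sur (m : ℤ) (s : F) : ∃ w ∈ WO S i W m, tc t w = w * i (S.o (m : ZMod 8) s) := by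
  obtain ⟨w, hw, h⟩ := WO_sur5 P D s
  have h1 := WO_rot P D (m - 2) hw
  rw [show 2 + (m - 2) = m by ring] at h1
  refine ⟨_, h1, ?_⟩
  have e := S.rotk_o (m - 2) 2 s
  have e2 : (2 : ZMod 8) + ((m - 2 : ℤ) : ZMod 8) = (m : ZMod 8) := by push_cast; ring
  rw [e2] at e
  rw [tc_rot P D, h, ← e]
  simp only [map_mul, map_inv]; group

theorem WO_t {m : ℤ} {w : G} (hw : w ∈ WO S i W m) : tc t w ∈ WO S i W m := by
  obtain ⟨h1, h2, h3⟩ := mem_WO.1 hw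
  refine mem_WO.2 ⟨FF_t P D w h1, FF_t P D w h2, fun h hh => ?_⟩
  have := congrArg (tc t) (h3 h hh)
  rw [map_mul, map_mul, tc_i P] at this
  exact this

theorem X_WO (m : ℤ) (s : F) : i (S.o (m : ZMod 8) s) ∈ WO S i W m := by
  obtain ⟨w, hw, h⟩ := WO_sur P D m s
  have e : i (S.o (m : ZMod 8) s) = w⁻¹ * tc t w := by rw [h]; group
  rw [e]
  exact mul_mem (inv_mem hw) (WO_t P D hw)

end dbl

end Cfsg.Agent.OddHalf.D7TwF4.Mid.Odd
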