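import Cfsg.Agent.OddHalf.D7TwF4.Mid.Basic
import Cfsg.Agent.KFacts.TwF4.TorEx

/-!
# `²F₄(q)`: the commutator `[W_2, W_6]` (helper427)

* `c26 : ⁅W_2, W_6⁆ ≤ Z_4`;
* `gam : ⁅w, w'⁆ = x_4'(g (u v))`, `g` additive.
-/

set_option autoImplicit false
set_option linter.unusedSectionVars false
set_option linter.style.haveILetI false
set_option linter.unusedVariables false

namespace Cfsg.Agent.OddHalf.D7TwF4.Mid.Pair

open Cfsg.Agent.KFacts.TwF4 Cfsg.Agent.SplitTwo.ZS Cfsg.Agent.OddHalf.D7TwF4.Defs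
open Cfsg.Agent.OddHalf.D7TwF4.Mid.Basic Cfsg.Agent.OddHalf.D7TwF4.Growth.Tools
open Cfsg.Agent.OddHalf.D7TwF4.Growth.Defs (Nz)

universe u v w

/-! ### commutators -/

section brk

variable {G : Type*} [Group G]

theorem brk_mul_z {a b z : G} (hz : z * b = b * z) : (a * z) * b * (a * z)⁻¹ * b⁻¹ = a * b * a⁻¹ * b⁻¹ := by
  calc (a * z) * b * (a * z)⁻¹ * b⁻¹ = a * (z * b) * z⁻¹ * a⁻¹ * b⁻¹ := by group
    _ = _ := by rw [hz]; group

theorem brk_mul_z' {a b z : G} (hz : z * a = a * z) : a * (b * z) * a⁻¹ * (b * z)⁻¹ = a * b * a⁻¹ * b⁻¹ := by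
  have h1 : z * a⁻¹ = a⁻¹ * z := (comm_inv hz.symm).symm
  calc a * (b * z) * a⁻¹ * (b * z)⁻¹ = a * b * (z * a⁻¹) * z⁻¹ * b⁻¹ := by group
    _ = _ := by rw [h1]; group

theorem brk_mul_right {a b c z z' : G} (h1 : a * b * a⁻¹ * b⁻¹ = z) (h2 : a * c * a⁻¹ * c⁻¹ = z')
    (hz : z' * b = b * z') : a * (b * c) * a⁻¹ * (b * c)⁻¹ = z * z' := by
  calc a * (b * c) * a⁻¹ * (b * c)⁻¹ = (a * b * a⁻¹ * b⁻¹) * (b * (a * c * a⁻¹ * c⁻¹)) * b⁻¹ := by group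
    _ = z * (b * z') * b⁻¹ := by rw [h1, h2]
    _ = z * z' := by rw [← hz]; group

theorem brk_conj (g a b : G) : (g * a * g⁻¹) * (g * b * g⁻¹) * (g * a * g⁻¹)⁻¹ * (g * b * g⁻¹)⁻¹ =
    g * (a * b * a⁻¹ * b⁻¹) * g⁻¹ := by group

theorem brk_inv (a b : G) : (a * b * a⁻¹ * b⁻¹)⁻¹ = b * a * b⁻¹ * a⁻¹ := by group

theorem brk_of_comm {a b : G} (h : a * b = b * a) : a * b * a⁻¹ * b⁻¹ = 1 := by
  rw [h]; group

theorem comm_of_brk {a b : G} (h : a * b * a⁻¹ * b⁻¹ = 1) : a * b = b * a := by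
  have := congrArg (fun x => x * b * a) h
  simpa [mul_assoc] using this

end brk

variable {F : Type w} [Field F] {σ : F →+* F} {Y : Type u} [Group Y] {G : Type v} [Group G]
variable {S : Full σ Y} {i : Y →* G} {t : G} {W : ℤ → Subgroup G}

/-! ### the torus -/

theorem exists_unit [Finite F] (h : 8 ≤ Nat.card F) : ∃ w : Fˣ, w ≠ 1 := by
  by_contra hcon
  push Not at hcon
  have h1 : Nat.card Fˣ ≤ 1 := by
    have : Subsingleton Fˣ := ⟨fun a b => by rw [hcon a, hcon b]⟩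
    exact Finite.card_le_one_iff_subsingleton.2 this
  have h2 : Nat.card Fˣ = Nat.card F - 1 := Nat.card_units F
  omega

theorem exists_h (P : Pos S i t) (k : ℤ) : ∃ h ∈ S.Tk k, ∀ j, ¬ (8 : ℤ) ∣ j - k → ∀ x ∈ S.XZ j, h * x * h⁻¹ = x → x = 1 := by
  haveI := P.finF
  obtain ⟨w, hw⟩ := exists_unit P.big
  obtain ⟨h, hT, h1, h2⟩ := TorEx.exists_tt S hw k
  refine ⟨h, ⟨hT, ?_⟩, h2⟩
  show h ∈ Subgroup.centralizer (S.XZ k : Set Y)
  rw [Subgroup.mem_centralizer_iff]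
  intro x hx
  have h3 := h1 k (by simp) x hx
  rw [mul_inv_eq_iff_eq_mul] at h3
  exact h3.symm

theorem Tk_T {k : ℤ} {h : Y} (hh : h ∈ S.Tk k) : h ∈ S.T := S.Tk_le k hh

/-! ### `[W_2, W_6] ≤ Z_4` -/

section c26

variable (P : Pos S i t) (D : WData S i t W)
include P D

theorem fix26 {w w' : G} (hw : w ∈ W 1) (hw' : w' ∈ W 3) : tc t (w * w' * w⁻¹ * w'⁻¹) = w * w' * w⁻¹ * w'⁻¹ := by
  obtain ⟨u, hu⟩ := tau' P D hw
  obtain ⟨v, hv⟩ := tau' P D hw'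
  have z1 : S.e ((1 : ℤ) : ZMod 8) 0 u ∈ S.XZ 2 := S.e_mem 1 0 u
  have z3 : S.e ((3 : ℤ) : ZMod 8) 0 v ∈ S.XZ 6 := S.e_mem 3 0 v
  simp only [map_mul, map_inv, hu, hv]
  rw [brk_mul_z' (a := w * i (S.e ((1 : ℤ) : ZMod 8) 0 u)), brk_mul_z]
  · exact (centX P D hw' (k := 2) (by norm_num) (by norm_num) z1).symm
  · have h1 := centX P D hw (k := 6) (by norm_num) (by norm_num) z3
    have h2 : S.e ((3 : ℤ) : ZMod 8) 0 v * S.e ((1 : ℤ) : ZMod 8) 0 u = S.e ((1 : ℤ) : ZMod 8) 0 u * S.e ((3 : ℤ) : ZMod 8) 0 v := by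
      exact (S.e_e2 1 0 u 0 v).symm
    calc i (S.e ((3 : ℤ) : ZMod 8) 0 v) * (w * i (S.e ((1 : ℤ) : ZMod 8) 0 u)) =
        (i (S.e ((3 : ℤ) : ZMod 8) 0 v) * w) * i (S.e ((1 : ℤ) : ZMod 8) 0 u) := by group
      _ = w * i (S.e ((3 : ℤ) : ZMod 8) 0 v * S.e ((1 : ℤ) : ZMod 8) 0 u) := by rw [← h1, map_mul]; group
      _ = _ := by rw [h2, map_mul]; group

/-- the first form -/
theorem pre26 {w w' : G} (hw : w ∈ W 1) (hw' : w' ∈ W 3) : ∃ u, ∃ m ∈ S.W46,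
    w * w' * w⁻¹ * w'⁻¹ = i (S.e 1 0 u * m) ∨ w * w' * w⁻¹ * w'⁻¹ = t * i (S.e 1 0 u * m) := by
  haveI := P.finF
  have hA : ∀ z ∈ S.Zc ((2 : ℤ) : ZMod 8), z ∈ (J S.XZ 2 6 : Set Y) := fun z hz =>
    mem_J (S.Zc_le 2 hz) (by norm_num) (by norm_num)
  obtain ⟨y, hy, h⟩ := P.lift (A := (J S.XZ 2 6 : Set Y)) hA (tc_comm P (fix26 P D hw hw')) (fun y hy =>
    comm_comm (centJ' P D hw (b := 2) (c := 6) (by norm_num) (by norm_num) hy)
      (centJ' P D hw' (b := 2) (c := 6) (by norm_num) (by norm_num) hy))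
  rw [Subgroup.mem_centralizer_iff] at hy
  obtain ⟨u, v, x, rfl⟩ := S.centralizer_J26.1 fun z hz => (hy z hz).symm
  refine ⟨u, S.e 2 0 v * S.e 3 0 x, ⟨v, x, rfl⟩, ?_⟩
  rw [← mul_assoc]; exact h

theorem kill26 {w : G} (hw : w ∈ W 1) : ∀ b ∈ W 3, b * w * b⁻¹ * w⁻¹ ∈ S.W46.map i := by
  haveI := P.finF
  haveI := P.finG
  obtain ⟨h, hh, hf⟩ := exists_h P 2
  have hhT := Tk_T hh
  have hn : ∀ a : ℤ, ∀ w ∈ W a, 2 * a - 4 ≤ 4 → 6 ≤ 2 * a + 4 → ∀ r ∈ S.W46.map i, w * r * w⁻¹ ∈ S.W46.map i := by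
    rintro a w hw h1 h2 _ ⟨y, hy, rfl⟩
    rw [centJ' P D hw (b := 4) (c := 6) h1 h2 (S.W46_le hy)]
    refine ⟨y, hy, ?_⟩
    group
  refine kill (h := i h) (fun b hb => TW P D hhT hb) (fun b hb hbf => ?_) ?_ (fun b hb r hr => hn 3 b hb (by norm_num) (by norm_num) r hr)
    (fun r hr => hn 1 w hw (by norm_num) (by norm_num) r hr) (fun b hb => ?_)
  · exact freeW P D (fun z hz hz' => hf 6 (by norm_num) z (S.Zc_le 3 hz) hz') hb hbf
  · exact (TkW P D (a := 1) hh hw).symm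
  · obtain ⟨u, m, hm, hc⟩ := pre26 P D hw hb
    obtain ⟨y, hy⟩ : ∃ y, y = S.e 1 0 u * m := ⟨_, rfl⟩
    have hhu : h * S.e 1 0 u = S.e 1 0 u * h := S.Tk_comm hh (S.mX2 0 u)
    have key : y * h * y⁻¹ * h⁻¹ ∈ S.W46 := by
      have e : y * h * y⁻¹ * h⁻¹ = S.e 1 0 u * (m * (h * m⁻¹ * h⁻¹)) * (S.e 1 0 u)⁻¹ := by
        have h2 : (S.e 1 0 u)⁻¹ * h⁻¹ = h⁻¹ * (S.e 1 0 u)⁻¹ := by
          rw [← mul_inv_rev, hhu, mul_inv_rev]
        rw [hy]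
        calc S.e 1 0 u * m * h * (S.e 1 0 u * m)⁻¹ * h⁻¹ =
            S.e 1 0 u * m * h * m⁻¹ * ((S.e 1 0 u)⁻¹ * h⁻¹) := by group
          _ = _ := by rw [h2]; group
      rw [e]
      exact S.W46_conj (mem_J (S.mX2 0 u) (by norm_num) (by norm_num)) (mul_mem hm (S.T_conj_W46 hhT (inv_mem hm)))
    rw [← brk_inv w b, inv_inv]
    have e2 : w * b * w⁻¹ * b⁻¹ * (i h * (w * b * w⁻¹ * b⁻¹)⁻¹ * (i h)⁻¹) = i (y * h * y⁻¹ * h⁻¹) := by
      simp only [map_mul, map_inv]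
      rcases hc with hc | hc
      · rw [hc, ← hy]; group
      · rw [hc, ← hy]
        have h3 := P.ti h
        have h4 := P.ti (y * h * y⁻¹ * h⁻¹)
        simp only [map_mul, map_inv] at h4
        calc t * i y * (i h * (t * i y)⁻¹ * (i h)⁻¹) = t * i y * i h * (i y)⁻¹ * (t⁻¹ * (i h)⁻¹) := by group
          _ = t * i y * i h * (i y)⁻¹ * ((i h)⁻¹ * t⁻¹) := by
              rw [← mul_inv_rev, ← mul_inv_rev, h3]
          _ = (t * (i y * i h * (i y)⁻¹ * (i h)⁻¹)) * t⁻¹ := by group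
          _ = _ := by rw [h4]; group
    rw [e2]
    exact ⟨_, key, rfl⟩

theorem kill62 {w' : G} (hw' : w' ∈ W 3) {b : G} (hb : b ∈ W 1) : ∃ u v, b * w' * b⁻¹ * w'⁻¹ = i (S.e 1 0 u * S.e 2 0 v) := by
  have h1 : i S.n2 * w' * (i S.n2)⁻¹ ∈ W 1 := by
    have := n2W P D hw'
    norm_num at this
    exact this
  have h3 : i S.n2 * b * (i S.n2)⁻¹ ∈ W 3 := by
    have := n2W P D hb
    norm_num at this
    exact this
  obtain ⟨m, ⟨u, v, rfl⟩, hm⟩ := kill26 P D h1 _ h3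
  rw [brk_conj] at hm
  refine ⟨v, u, ?_⟩
  have e1 : b * w' * b⁻¹ * w'⁻¹ = (i S.n2)⁻¹ * i (S.e 2 0 u * S.e 3 0 v) * i S.n2 := by
    rw [hm]; group
  have e2 : S.n2⁻¹ * (S.e 2 0 u * S.e 3 0 v) * S.n2 = S.e 1 0 v * S.e 2 0 u := by
    have a1 : S.n2⁻¹ * S.e 2 0 u * S.n2 = S.e 2 0 u := S.n2_e' 2 0 u
    have a2 : S.n2⁻¹ * S.e 3 0 v * S.n2 = S.e 1 0 v := S.n2_e' 3 0 v
    have a3 : S.e 1 0 v * S.e 2 0 u = S.e 2 0 u * S.e 1 0 v := by
      have := S.e_e1 1 0 v 0 u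
      simp only [zero_mul, S.o_zero, mul_one] at this
      exact this
    calc S.n2⁻¹ * (S.e 2 0 u * S.e 3 0 v) * S.n2 = (S.n2⁻¹ * S.e 2 0 u * S.n2) * (S.n2⁻¹ * S.e 3 0 v * S.n2) := by group
      _ = _ := by rw [a1, a2, a3]
  rw [e1, ← e2]
  simp only [map_mul, map_inv]

/-- **`[W_2, W_6] ≤ Z_4`** -/
theorem c26 {w w' : G} (hw : w ∈ W 1) (hw' : w' ∈ W 3) : ∃ x, w * w' * w⁻¹ * w'⁻¹ = i (S.e 2 0 x) := by
  obtain ⟨u, v, h1⟩ := kill62 P D hw' hw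
  have h2 := inv_mem (kill26 P D hw w' hw')
  rw [brk_inv] at h2
  obtain ⟨m, hm, h3⟩ := h2
  rw [h1] at h3
  have h4 := P.inj h3
  have h5 : S.e 1 0 u = 1 := by
    apply S.zsys8.inter 2 _ (S.mX2 0 u)
    have e : S.e 1 0 u = m * (S.e 2 0 v)⁻¹ := by rw [h4]; group
    rw [e]
    exact mul_mem (J_mono (by norm_num) (by norm_num) (S.W46_le hm)) (inv_mem (mem_J (S.mX4 0 v) (by norm_num) (by norm_num)))
  refine ⟨v, ?_⟩
  rw [h1, h5, one_mul]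

/-! ### the bilinear form -/

/-- elements of `W_2` with the same `τ` have the same commutators with `W_6` -/
theorem indepL {w w1 w' y : G} (hw : w ∈ W 1) (hw1 : w1 ∈ W 1) (h : tc t w = w * y) (h1 : tc t w1 = w1 * y)
    (hw' : w' ∈ W 3) : w1 * w' * w1⁻¹ * w'⁻¹ = w * w' * w⁻¹ * w'⁻¹ := by
  obtain ⟨z, hz, rfl⟩ := W_eq P D hw hw1 h h1
  exact brk_mul_z (centX P D hw' (k := 2) (by norm_num) (by norm_num) (S.Zc_le 1 hz)).symm

theorem indepR {w w1 w' y : G} (hw : w ∈ W 3) (hw1 : w1 ∈ W 3) (h : tc t w = w * y) (h1 : tc t w1 = w1 * y)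
    (hw' : w' ∈ W 1) : w' * w1 * w'⁻¹ * w1⁻¹ = w' * w * w'⁻¹ * w⁻¹ := by
  obtain ⟨z, hz, rfl⟩ := W_eq P D hw hw1 h h1
  exact brk_mul_z' (centX P D hw' (k := 6) (by norm_num) (by norm_num) (S.Zc_le 3 hz)).symm

theorem tau_mul {a : ℤ} {w w1 : G} {u v : F} (hw1 : w1 ∈ W a) (h : tc t w = w * i (S.e (a : ZMod 8) 0 u))
    (h1 : tc t w1 = w1 * i (S.e (a : ZMod 8) 0 v)) :
    tc t (w * w1) = (w * w1) * i (S.e (a : ZMod 8) 0 (u + v)) := by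
  have hc : w1 * i (S.e (a : ZMod 8) 0 u) = i (S.e (a : ZMod 8) 0 u) * w1 :=
    centX P D hw1 (k := 2 * a) (by omega) (by omega) (S.e_mem a 0 u)
  have e : S.e (a : ZMod 8) 0 (u + v) = S.e (a : ZMod 8) 0 u * S.e (a : ZMod 8) 0 v := by
    rw [S.e_mul]; simp
  rw [map_mul, h, h1, e, map_mul]
  calc w * i (S.e (a : ZMod 8) 0 u) * (w1 * i (S.e (a : ZMod 8) 0 v)) =
      w * (i (S.e (a : ZMod 8) 0 u) * w1) * i (S.e (a : ZMod 8) 0 v) := by group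
    _ = _ := by rw [← hc]; group

theorem tau_conj {a : ℤ} {w : G} {u : F} (h : tc t w = w * i (S.e (a : ZMod 8) 0 u)) (g : Y) :
    tc t (i g * w * (i g)⁻¹) = (i g * w * (i g)⁻¹) * i (g * S.e (a : ZMod 8) 0 u * g⁻¹) := by
  simp only [map_mul, map_inv, tc_i P, h]
  group

theorem exists_gam : ∃ g : F → F, (∀ x y, g (x + y) = g x + g y) ∧ ∀ u v w w', w ∈ W 1 → w' ∈ W 3 →
    tc t w = w * i (S.e 1 0 u) → tc t w' = w' * i (S.e 3 0 v) → w * w' * w⁻¹ * w'⁻¹ = i (S.e 2 0 (g (u * v))) := by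
  haveI := P.finF
  have c1 : ((1 : ℤ) : ZMod 8) = 1 := by norm_num
  have c3 : ((3 : ℤ) : ZMod 8) = 3 := by norm_num
  have hp := fun u : F => sur P D 1 u
  have hq := fun u : F => sur P D 3 u
  rw [c1] at hp
  rw [c3] at hq
  choose p hp1 hp2 using hp
  choose q hq1 hq2 using hq
  have hB := fun u v => c26 P D (hp1 u) (hq1 v)
  choose B hB using hB
  -- all elements
  have gen : ∀ u v w w', w ∈ W 1 → w' ∈ W 3 → tc t w = w * i (S.e 1 0 u) → tc t w' = w' * i (S.e 3 0 v) →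
      w * w' * w⁻¹ * w'⁻¹ = i (S.e 2 0 (B u v)) := by
    intro u v w w' hw hw' h h'
    rw [indepL P D (hp1 u) hw (hp2 u) h hw', indepR P D (hq1 v) hw' (hq2 v) h' (hp1 u), hB]
  have inj2 : ∀ {x y : F}, i (S.e 2 0 x) = i (S.e 2 0 y) → x = y := fun h => (S.injE 2 _ _ _ _ (P.inj h)).2
  have add : ∀ u v v', B u (v + v') = B u v + B u v' := by
    intro u v v'
    apply inj2
    have h1 := tau_mul P D (a := 3) (hq1 v') (by rw [c3]; exact hq2 v) (by rw [c3]; exact hq2 v')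
    rw [c3] at h1
    rw [← gen u (v + v') (p u) (q v * q v') (hp1 u) (mul_mem (hq1 v) (hq1 v')) (hp2 u) h1]
    rw [brk_mul_right (hB u v) (hB u v')]
    · rw [← map_mul, S.e_mul]; simp
    · exact (centX P D (hq1 v) (k := 4) (by norm_num) (by norm_num) (S.mX4 0 _)).symm
  have zeroR : ∀ u, B u 0 = 0 := by
    intro u
    have := add u 0 0
    rw [add_zero] at this
    exact left_eq_add.1 this
  have zeroL : ∀ v, B 0 v = 0 := by
    intro v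
    apply inj2
    have h1 : tc t (1 : G) = 1 * i (S.e 1 0 0) := by rw [S.e_zero, map_one, map_one, mul_one]
    rw [← gen 0 v 1 (q v) (one_mem _) (hq1 v) h1 (hq2 v), S.e_zero, map_one]
    group
  have scale : ∀ (n : Fˣ) u v, B ((n : F) * u) ((n : F)⁻¹ * v) = B u v := by
    intro n u v
    obtain ⟨d, hd⟩ := Arc.s1_surj S n
    obtain ⟨h, hh⟩ : ∃ h, h = S.h (Units.map (σ : F →* F) d) d := ⟨_, rfl⟩
    have hhT : h ∈ S.T := S.mem_T.2 ⟨_, _, hh.symm⟩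
    have a1 : h * S.e 1 0 u * h⁻¹ = S.e 1 0 ((n : F) * u) := by
      rw [hh, S.h_e, chE_one, mul_zero, ← hd]
      simp
    have a2 : ∀ x, h * S.e 2 0 x * h⁻¹ = S.e 2 0 x := by
      intro x
      rw [hh, S.h_e, chE_two, mul_zero, div_self', Units.val_one, map_one, one_mul, one_mul]
    have a3 : h * S.e 3 0 v * h⁻¹ = S.e 3 0 ((n : F)⁻¹ * v) := by
      rw [hh, S.h_e, chE_three, mul_zero]
      have e1 : d / Units.map (σ : F →* F) (Units.map (σ : F →* F) d) = d⁻¹ := by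
        rw [map_map σ S.sq d, pow_two, div_eq_mul_inv, mul_inv_rev, mul_inv_cancel_left]
      rw [e1, ← hd]
      simp [mul_inv_rev, mul_comm]
    apply inj2
    rw [← gen ((n : F) * u) ((n : F)⁻¹ * v) (i h * p u * (i h)⁻¹) (i h * q v * (i h)⁻¹) (TW P D hhT (hp1 u))
      (TW P D hhT (hq1 v)) ?_ ?_]
    · rw [brk_conj, hB, ← map_mul, ← map_inv, ← map_mul, a2]
    · have := tau_conj P D (a := 1) (by rw [c1]; exact hp2 u) h
      rw [c1, a1] at this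
      exact this
    · have := tau_conj P D (a := 3) (by rw [c3]; exact hq2 v) h
      rw [c3, a3] at this
      exact this
  refine ⟨B 1, add 1, ?_⟩
  intro u v w w' hw hw' h h'
  rw [gen u v w w' hw hw' h h']
  congr 2
  by_cases hu : u = 0
  · rw [hu, zero_mul, zeroR, zeroL]
  · have := scale (Units.mk0 u hu) 1 (u * v)
    rw [Units.val_mk0, mul_one, inv_mul_cancel_left₀ hu] at this
    exact this

end c26

end Cfsg.Agent.OddHalf.D7TwF4.Mid.Pair
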